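import Mathlib

/-!
# Frobenius' lemma on finite linear groups (the 12^n bound)

A finite complex linear group of degree `n` has an abelian normal subgroup `A` such that every
abelian subgroup `H` satisfies `[H : H ⊓ A] ≤ 12 ^ n`.
-/

set_option autoImplicit false

namespace Cfsg.Agent.Lib.Jordan

open scoped InnerProductSpace
open Module

variable {G : Type*} [Group G] [Finite G]
variable {E : Type*} [NormedAddCommGroup E] [InnerProductSpace ℂ E] [FiniteDimensional ℂ E]
  [CompleteSpace E]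

/-- The action is by isometries. -/
def IsUnitaryHom (X : G →* (E →L[ℂ] E)) : Prop :=
  ∀ g : G, ∀ u v : E, ⟪X g u, X g v⟫_ℂ = ⟪u, v⟫_ℂ

/-- `g` acts by an operator at distance less than `1/2` from some scalar. -/
def NearScalar (X : G →* (E →L[ℂ] E)) (g : G) : Prop :=
  ∃ c : ℂ, ‖X g - c • (1 : E →L[ℂ] E)‖ < 1 / 2

variable {X : G →* (E →L[ℂ] E)}

omit [Finite G] [FiniteDimensional ℂ E] in
theorem IsUnitaryHom.star_eq (hX : IsUnitaryHom X) (g : G) : star (X g) = X g⁻¹ := by
  refine ContinuousLinearMap.ext fun x => ext_inner_right ℂ fun y => ?_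
  rw [ContinuousLinearMap.star_eq_adjoint, ContinuousLinearMap.adjoint_inner_left]
  conv_rhs => rw [← hX g, ← ContinuousLinearMap.comp_apply]
  rw [← ContinuousLinearMap.mul_def, ← map_mul, mul_inv_cancel, map_one]
  rfl

omit [Finite G] [FiniteDimensional ℂ E] [CompleteSpace E] in
theorem IsUnitaryHom.norm_map (hX : IsUnitaryHom X) (g : G) (v : E) : ‖X g v‖ = ‖v‖ := by
  rw [norm_eq_sqrt_re_inner (𝕜 := ℂ), hX g, ← norm_eq_sqrt_re_inner (𝕜 := ℂ)]

omit [Finite G] [FiniteDimensional ℂ E] [CompleteSpace E] in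
theorem IsUnitaryHom.opNorm_le (hX : IsUnitaryHom X) (g : G) : ‖X g‖ ≤ 1 :=
  ContinuousLinearMap.opNorm_le_bound _ zero_le_one fun v => by rw [hX.norm_map, one_mul]

omit [Finite G] [FiniteDimensional ℂ E] [CompleteSpace E] in
theorem norm_conj_le (hX : IsUnitaryHom X) (g : G) (a : E →L[ℂ] E) :
    ‖X g * a * X g⁻¹‖ ≤ ‖a‖ := by
  calc ‖X g * a * X g⁻¹‖ ≤ ‖X g‖ * ‖a‖ * ‖X g⁻¹‖ := by
        refine (norm_mul_le _ _).trans ?_
        exact mul_le_mul_of_nonneg_right (norm_mul_le _ _) (norm_nonneg _)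
    _ ≤ 1 * ‖a‖ * 1 := by
        refine mul_le_mul (mul_le_mul_of_nonneg_right (hX.opNorm_le g) (norm_nonneg _))
          (hX.opNorm_le _) (norm_nonneg _) (by positivity)
    _ = ‖a‖ := by ring

omit [Finite G] [FiniteDimensional ℂ E] [CompleteSpace E] in
theorem NearScalar.conj (hX : IsUnitaryHom X) {g : G} (hg : NearScalar X g) (h : G) :
    NearScalar X (h * g * h⁻¹) := by
  obtain ⟨c, hc⟩ := hg
  refine ⟨c, lt_of_le_of_lt ?_ hc⟩
  refine le_trans (le_of_eq ?_) (norm_conj_le hX h (X g - c • 1))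
  congr 1
  rw [mul_sub, sub_mul, map_mul, map_mul, mul_smul_comm, smul_mul_assoc, mul_one, ← map_mul X h h⁻¹,
    mul_inv_cancel, map_one]

omit [Finite G] [FiniteDimensional ℂ E] [CompleteSpace E] in
theorem NearScalar.inner_ne_zero (hX : IsUnitaryHom X) {g : G} (hg : NearScalar X g) {v : E}
    (hv : v ≠ 0) : ⟪v, X g v⟫_ℂ ≠ 0 := by
  obtain ⟨c, hc⟩ := hg
  intro h0
  have hv' : 0 < ‖v‖ := norm_pos_iff.2 hv
  have h1 : ‖(X g - c • (1 : E →L[ℂ] E)) v‖ < 1 / 2 * ‖v‖ :=
    lt_of_le_of_lt (ContinuousLinearMap.le_opNorm _ _) (mul_lt_mul_of_pos_right hc hv')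
  have e1 : (X g - c • (1 : E →L[ℂ] E)) v = X g v - c • v := rfl
  rw [e1] at h1
  have h2 : ‖v‖ ≤ ‖X g v - c • v‖ + ‖c‖ * ‖v‖ := by
    calc ‖v‖ = ‖X g v‖ := (hX.norm_map g v).symm
      _ = ‖(X g v - c • v) + c • v‖ := by rw [sub_add_cancel]
      _ ≤ ‖X g v - c • v‖ + ‖c • v‖ := norm_add_le _ _
      _ = _ := by rw [norm_smul]
  have h3 : ‖⟪v, X g v - c • v⟫_ℂ‖ ≤ ‖v‖ * ‖X g v - c • v‖ := norm_inner_le_norm _ _
  rw [inner_sub_right, h0, zero_sub, norm_neg, inner_smul_right, norm_mul,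
    inner_self_eq_norm_sq_to_K] at h3
  have h4 : ‖((‖v‖ : ℂ)) ^ 2‖ = ‖v‖ ^ 2 := by simp
  rw [RCLike.ofReal_eq_complex_ofReal, h4] at h3
  have h5 : ‖c‖ * ‖v‖ ≤ ‖X g v - c • v‖ := by nlinarith
  linarith

/-- If `X g` commutes with... : eigenspaces of a finite order element span. -/
theorem eq_of_eqOn_eigenspaces (g h : G)
    (H : ∀ a : ℂ, ∀ e ∈ Module.End.eigenspace (X g : E →ₗ[ℂ] E) a, X h e = X g e) :
    X h = X g := by
  set f : Module.End ℂ E := (X g : E →ₗ[ℂ] E) with hf
  have hpow : ∀ k : ℕ, f ^ k = ((X (g ^ k)) : E →ₗ[ℂ] E) := by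
    intro k
    induction k with
    | zero => ext v; simp
    | succ k ih =>
      rw [pow_succ, ih]
      ext v
      simp [hf, pow_succ]
  have hm : (orderOf g : ℕ) ≠ 0 := (orderOf_pos g).ne'
  have hss : f.IsSemisimple := by
    refine Module.End.isSemisimple_of_squarefree_aeval_eq_zero
      (p := Polynomial.X ^ orderOf g - 1) ?_ ?_
    · exact (Polynomial.X_pow_sub_one_separable_iff.2 (Nat.cast_ne_zero.2 hm)).squarefree
    · rw [map_sub, map_pow, Polynomial.aeval_X, map_one, hpow, pow_orderOf_eq_one]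
      ext v; simp
  have htop := Module.End.iSup_maxGenEigenspace_eq_top f
  simp only [hss.isFinitelySemisimple.maxGenEigenspace_eq_eigenspace] at htop
  refine ContinuousLinearMap.ext fun v => ?_
  have hle : (⊤ : Submodule ℂ E) ≤ LinearMap.eqLocus (X h : E →ₗ[ℂ] E) f := by
    rw [← htop]
    refine iSup_le fun a e he => ?_
    exact H a e he
  exact hle (Submodule.mem_top : v ∈ ⊤)

omit [CompleteSpace E] in
theorem eigen_proj_mem (g : G) {m : ℕ} (hgm : g ^ m = 1) {a : ℂ} (ham : a ^ m = 1)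
    (v : E) :
    X g (∑ k ∈ Finset.range m, (a⁻¹) ^ k • X (g ^ k) v)
      = a • ∑ k ∈ Finset.range m, (a⁻¹) ^ k • X (g ^ k) v := by
  rcases Nat.eq_zero_or_pos m with hm | hm
  · subst hm; simp
  have ha : a ≠ 0 := by
    rintro rfl
    rw [zero_pow hm.ne'] at ham
    exact zero_ne_one ham
  set f : ℕ → E := fun k => (a⁻¹) ^ k • X (g ^ k) v with hf
  have hstep : ∀ k, X g (f k) = a • f (k + 1) := by
    intro k
    simp only [hf, map_smul, smul_smul]
    rw [pow_succ' g k, map_mul, ContinuousLinearMap.mul_apply, pow_succ', ← mul_assoc,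
      mul_inv_cancel₀ ha, one_mul]
  have hper : f m = f 0 := by simp only [hf, hgm, inv_pow, ham, inv_one, pow_zero]
  rw [map_sum]
  show ∑ k ∈ Finset.range m, X g (f k) = a • ∑ k ∈ Finset.range m, f k
  simp only [hstep, ← Finset.smul_sum]
  congr 1
  have h1 := Finset.sum_range_succ f m
  have h2 := Finset.sum_range_succ' f m
  rw [h1, hper] at h2
  exact (add_right_cancel h2).symm

theorem commute_step (hX : IsUnitaryHom X) (hinj : Function.Injective X) {x y : G}
    (hy : NearScalar X y) (hz : Commute x (x * y * x⁻¹ * y⁻¹)) : Commute x y := by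
  set z := x * y * x⁻¹ * y⁻¹ with hzdef
  set w := z⁻¹ * x with hwdef
  have hwx : Commute w x := Commute.mul_left (Commute.inv_left hz.symm) (Commute.refl x)
  have hyw : w * y = y * x := by rw [hwdef, hzdef]; group
  suffices X w = X x by
    have h1 := hinj this
    have h2 : z = 1 := inv_eq_one.1 (mul_eq_right.1 (hwdef ▸ h1) : z⁻¹ = 1)
    have h3 : x * y = y * x := by
      calc x * y = z * (y * x) := by rw [hzdef]; group
        _ = y * x := by rw [h2, one_mul]
    exact h3
  refine eq_of_eqOn_eigenspaces x w fun a e he => ?_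
  by_cases he0 : e = 0
  · simp [he0]
  rw [Module.End.mem_eigenspace_iff] at he
  have hea : X x e = a • e := he
  have hpow : ∀ k : ℕ, ∀ u : E, X x u = a • u → X (x ^ k) u = a ^ k • u := by
    intro k
    induction k with
    | zero => intro u _; simp
    | succ k ih =>
      intro u hu
      rw [pow_succ, map_mul, ContinuousLinearMap.mul_apply, hu, map_smul, ih u hu, smul_smul,
        pow_succ']
  set m := orderOf x with hm
  have ham : a ^ m = 1 := by
    have h1 := hpow m e hea
    rw [pow_orderOf_eq_one, map_one] at h1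
    have h2 : (a ^ m - 1) • e = 0 := by
      rw [sub_smul, one_smul, ← h1]; exact sub_self _
    rcases smul_eq_zero.1 h2 with h3 | h3
    · exact sub_eq_zero.1 h3
    · exact absurd h3 he0
  have hm0 : m ≠ 0 := (orderOf_pos x).ne'
  have ha0 : a ≠ 0 := by
    rintro rfl; rw [zero_pow hm0] at ham; exact zero_ne_one ham
  let P : E →ₗ[ℂ] E := (m : ℂ)⁻¹ • ∑ k ∈ Finset.range m, (a⁻¹) ^ k • (X (x ^ k) : E →ₗ[ℂ] E)
  have hP : ∀ v, P v = (m : ℂ)⁻¹ • ∑ k ∈ Finset.range m, (a⁻¹) ^ k • X (x ^ k) v := by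
    intro v
    simp only [P, LinearMap.smul_apply, LinearMap.sum_apply]
    rfl
  let F : Submodule ℂ E := Module.End.eigenspace (X x : E →ₗ[ℂ] E) a
  have hPF : ∀ v, P v ∈ F := by
    intro v
    rw [Module.End.mem_eigenspace_iff]
    show X x (P v) = a • P v
    rw [hP, map_smul, eigen_proj_mem x (pow_orderOf_eq_one x) ham, smul_comm]
  let φ : F →ₗ[ℂ] F :=
    (P ∘ₗ (X y : E →ₗ[ℂ] E) ∘ₗ F.subtype).codRestrict F (fun v => hPF _)
  have hφ : Function.Injective φ := by
    rw [← LinearMap.ker_eq_bot, LinearMap.ker_eq_bot']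
    intro v hv
    have hv' : P (X y v) = 0 := congrArg Subtype.val hv
    by_contra hne
    have hne' : (v : E) ≠ 0 := fun h => hne (Subtype.ext h)
    have hvF : X x (v : E) = a • (v : E) := Module.End.mem_eigenspace_iff.1 v.2
    apply hy.inner_ne_zero hX hne'
    have h1 : ⟪(v : E), P (X y v)⟫_ℂ = ⟪(v : E), X y v⟫_ℂ := by
      rw [hP, inner_smul_right, inner_sum]
      have h2 : ∀ k ∈ Finset.range m,
          ⟪(v : E), a⁻¹ ^ k • X (x ^ k) (X y v)⟫_ℂ = ⟪(v : E), X y v⟫_ℂ := by
        intro k _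
        rw [inner_smul_right]
        conv_rhs => rw [← hX (x ^ k), hpow k _ hvF, inner_smul_left]
        congr 1
        have hn : ‖a ^ k‖ = 1 := by
          rw [norm_pow, Complex.norm_eq_one_of_pow_eq_one ham hm0, one_pow]
        rw [← Complex.inv_eq_conj hn, inv_pow]
      rw [Finset.sum_congr rfl h2, Finset.sum_const, Finset.card_range, nsmul_eq_mul, ← mul_assoc,
        inv_mul_cancel₀ (Nat.cast_ne_zero.2 hm0), one_mul]
    rw [← h1, hv', inner_zero_right]
  obtain ⟨v, hv⟩ := LinearMap.injective_iff_surjective.1 hφ ⟨e, Module.End.mem_eigenspace_iff.2 he⟩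
  have hev : P (X y v) = e := congrArg Subtype.val hv
  have hvF : X x (v : E) = a • (v : E) := Module.End.mem_eigenspace_iff.1 v.2
  have hwP : ∀ u, X w (P u) = P (X w u) := by
    intro u
    rw [hP, hP, map_smul, map_sum]
    congr 1
    refine Finset.sum_congr rfl fun k _ => ?_
    rw [map_smul, ← ContinuousLinearMap.mul_apply, ← map_mul, (hwx.pow_right k).eq, map_mul,
      ContinuousLinearMap.mul_apply]
  rw [hea, ← hev, hwP, ← ContinuousLinearMap.mul_apply, ← map_mul, hyw, map_mul,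
    ContinuousLinearMap.mul_apply, hvF, map_smul, map_smul]

omit [FiniteDimensional ℂ E] [CompleteSpace E] in
theorem commutator_norm_le (hX : IsUnitaryHom X) (x y : G) (c d : ℂ) :
    ‖X (x * y * x⁻¹ * y⁻¹) - 1‖ ≤
      2 * ‖X x - c • (1 : E →L[ℂ] E)‖ * ‖X y - d • (1 : E →L[ℂ] E)‖ := by
  have h0 : X (x * y * x⁻¹ * y⁻¹) - 1 = (X x * X y - X y * X x) * X (x⁻¹ * y⁻¹) := by
    rw [sub_mul, ← map_mul, ← map_mul, ← map_mul, ← map_mul, ← mul_assoc, ← mul_assoc]
    simp
  set a := X x - c • (1 : E →L[ℂ] E) with ha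
  set b := X y - d • (1 : E →L[ℂ] E) with hb
  have h1 : X x * X y - X y * X x = a * b - b * a := by
    rw [ha, hb]
    simp only [mul_sub, sub_mul, smul_mul_assoc, mul_smul_comm, one_mul, mul_one, smul_sub]
    rw [smul_comm c d]
    abel
  rw [h0, h1]
  calc ‖(a * b - b * a) * X (x⁻¹ * y⁻¹)‖ ≤ ‖a * b - b * a‖ * ‖X (x⁻¹ * y⁻¹)‖ := norm_mul_le _ _
    _ ≤ ‖a * b - b * a‖ * 1 := mul_le_mul_of_nonneg_left (hX.opNorm_le _) (norm_nonneg _)
    _ ≤ (‖a‖ * ‖b‖ + ‖b‖ * ‖a‖) * 1 := by
        refine mul_le_mul_of_nonneg_right ((norm_sub_le _ _).trans ?_) zero_le_one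
        exact add_le_add (norm_mul_le _ _) (norm_mul_le _ _)
    _ = 2 * ‖a‖ * ‖b‖ := by ring

theorem near_commute (hX : IsUnitaryHom X) (hinj : Function.Injective X) {x y : G}
    (hx : NearScalar X x) (hy : NearScalar X y) : Commute x y := by
  let φ : G → G := fun t => x * t * x⁻¹ * y⁻¹
  let f : G → G := fun t => x * t * x⁻¹ * t⁻¹
  obtain ⟨c, hc⟩ := hx
  set r := 2 * ‖X x - c • (1 : E →L[ℂ] E)‖ with hr
  have hr1 : r < 1 := by rw [hr]; linarith
  have hr0 : 0 ≤ r := by rw [hr]; positivity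
  have hstep : ∀ t, ‖X (f t) - 1‖ ≤ r * ‖X t - 1‖ := by
    intro t
    have := commutator_norm_le hX x t c 1
    rwa [one_smul] at this
  have hfirst : ∀ t, NearScalar X t → ‖X (f t) - 1‖ < 1 / 2 := by
    rintro t ⟨d, hd⟩
    refine lt_of_le_of_lt (commutator_norm_le hX x t c d) ?_
    calc r * ‖X t - d • (1 : E →L[ℂ] E)‖ ≤ 1 * ‖X t - d • (1 : E →L[ℂ] E)‖ :=
          mul_le_mul_of_nonneg_right hr1.le (norm_nonneg _)
      _ < 1 / 2 := by rw [one_mul]; exact hd
  have hnear : ∀ k, NearScalar X (f^[k] y) := by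
    intro k
    induction k with
    | zero => exact hy
    | succ k ih =>
      rw [Function.iterate_succ_apply']
      exact ⟨1, by rw [one_smul]; exact hfirst _ ih⟩
  have hgeo : ∀ k, ‖X (f^[k] y) - 1‖ ≤ r ^ k * ‖X y - 1‖ := by
    intro k
    induction k with
    | zero => simp
    | succ k ih =>
      rw [Function.iterate_succ_apply']
      calc ‖X (f (f^[k] y)) - 1‖ ≤ r * ‖X (f^[k] y) - 1‖ := hstep _
        _ ≤ r * (r ^ k * ‖X y - 1‖) := mul_le_mul_of_nonneg_left ih hr0
        _ = r ^ (k + 1) * ‖X y - 1‖ := by ring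
  have hev : ∃ k, f^[k] y = 1 := by
    by_contra hne
    push Not at hne
    have : Fintype G := Fintype.ofFinite G
    classical
    let S : Finset G := Finset.univ.filter fun g => g ≠ 1
    have hS : S.Nonempty := ⟨f^[0] y, by simp [S]; exact hne 0⟩
    obtain ⟨g₀, hg₀, hmin⟩ := S.exists_min_image (fun g => ‖X g - 1‖) hS
    have hpos : 0 < ‖X g₀ - 1‖ := by
      refine norm_pos_iff.2 (sub_ne_zero.2 fun h => ?_)
      exact (Finset.mem_filter.1 hg₀).2 (hinj (h.trans (map_one X).symm))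
    have ht : Filter.Tendsto (fun k => r ^ k * ‖X y - 1‖) Filter.atTop (nhds 0) := by
      simpa using (tendsto_pow_atTop_nhds_zero_of_lt_one hr0 hr1).mul_const ‖X y - 1‖
    obtain ⟨k, hk⟩ := (ht.eventually (gt_mem_nhds hpos)).exists
    have := (hmin (f^[k] y) (by simp [S]; exact hne k)).trans (hgeo k)
    linarith
  obtain ⟨k, hk⟩ := hev
  have key : ∀ k, f^[k] y = 1 → Commute x y := by
    intro k
    induction k with
    | zero => intro h; rw [Function.iterate_zero_apply] at h; rw [h]; exact Commute.one_right x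
    | succ k ih =>
      intro h
      rcases k with _ | j
      · rw [Function.iterate_succ_apply', Function.iterate_zero_apply] at h
        have h' : x * y * x⁻¹ * y⁻¹ = 1 := h
        exact mul_inv_eq_iff_eq_mul.1 (mul_inv_eq_one.1 h')
      · apply ih
        rw [Function.iterate_succ_apply'] at h
        have h' : x * (f^[j + 1] y) * x⁻¹ * (f^[j + 1] y)⁻¹ = 1 := h
        have hc' : Commute x (f^[j + 1] y) := mul_inv_eq_iff_eq_mul.1 (mul_inv_eq_one.1 h')
        rw [Function.iterate_succ_apply'] at hc' ⊢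
        have hcy : Commute x (f^[j] y) := commute_step hX hinj (hnear j) hc'
        show x * (f^[j] y) * x⁻¹ * (f^[j] y)⁻¹ = 1
        rw [hcy.eq]
        group
  exact key k hk

theorem exists_common_eigvec (T : G → Module.End ℂ E) (s : Finset G)
    (hc : ∀ a ∈ s, ∀ b ∈ s, Commute (T a) (T b)) :
    ∀ W : Submodule ℂ E, W ≠ ⊥ → (∀ a ∈ s, ∀ v ∈ W, T a v ∈ W) →
      ∃ v ∈ W, v ≠ 0 ∧ ∀ a ∈ s, ∃ μ : ℂ, T a v = μ • v := by
  classical
  induction s using Finset.induction with
  | empty =>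
    intro W hW _
    obtain ⟨v, hv, hv0⟩ := Submodule.exists_mem_ne_zero_of_ne_bot hW
    exact ⟨v, hv, hv0, by simp⟩
  | insert b s hb ih =>
    intro W hW hinv
    have : Nontrivial W := Submodule.nontrivial_iff_ne_bot.2 hW
    let g : Module.End ℂ W := (T b).restrict (hinv b (Finset.mem_insert_self _ _))
    obtain ⟨μ, hμ⟩ := Module.End.exists_eigenvalue g
    let W' : Submodule ℂ E := W ⊓ Module.End.eigenspace (T b) μ
    have hW' : W' ≠ ⊥ := by
      obtain ⟨u, hu⟩ := hμ.exists_hasEigenvector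
      refine (Submodule.ne_bot_iff _).2 ⟨(u : E), ⟨u.2, ?_⟩, ?_⟩
      · rw [SetLike.mem_coe, Module.End.mem_eigenspace_iff]
        exact congrArg Subtype.val hu.apply_eq_smul
      · exact fun h => hu.2 (Subtype.ext h)
    obtain ⟨v, hv, hv0, hev⟩ := ih (fun a ha c hc' => hc a (Finset.mem_insert_of_mem ha) c
        (Finset.mem_insert_of_mem hc')) W' hW' (by
      intro a ha v hv
      refine ⟨hinv a (Finset.mem_insert_of_mem ha) v hv.1, ?_⟩
      rw [SetLike.mem_coe, Module.End.mem_eigenspace_iff]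
      have h1 := hc b (Finset.mem_insert_self _ _) a (Finset.mem_insert_of_mem ha)
      rw [← Module.End.mul_apply, h1.eq, Module.End.mul_apply,
        Module.End.mem_eigenspace_iff.1 hv.2, map_smul])
    refine ⟨v, hv.1, hv0, ?_⟩
    intro a ha
    rcases Finset.mem_insert.1 ha with rfl | ha
    · exact ⟨μ, Module.End.mem_eigenspace_iff.1 hv.2⟩
    · exact hev a ha

theorem norm_sub_cos_lt {θ : ℝ} (hθ : |θ| < Real.pi / 6) :
    ‖Complex.exp (θ * Complex.I) - ((Real.sqrt 3 / 2 : ℝ) : ℂ)‖ < 1 / 2 := by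
  have hcos : Real.sqrt 3 / 2 < Real.cos θ := by
    rw [← Real.cos_pi_div_six, ← Real.cos_abs θ]
    exact Real.cos_lt_cos_of_nonneg_of_le_pi (abs_nonneg _) (by linarith [Real.pi_pos]) hθ
  have hsq : Real.sqrt 3 * Real.sqrt 3 = 3 := Real.mul_self_sqrt (by norm_num)
  have hs : 0 < Real.sqrt 3 := Real.sqrt_pos.2 (by norm_num)
  have h1 : ‖Complex.exp (θ * Complex.I) - ((Real.sqrt 3 / 2 : ℝ) : ℂ)‖ ^ 2 < (1 / 2) ^ 2 := by
    rw [Complex.sq_norm, Complex.normSq_apply]
    simp only [Complex.sub_re, Complex.sub_im, Complex.exp_ofReal_mul_I_re,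
      Complex.exp_ofReal_mul_I_im, Complex.ofReal_re, Complex.ofReal_im, sub_zero]
    nlinarith [Real.sin_sq_add_cos_sq θ, mul_lt_mul_of_pos_left hcos hs]
  exact lt_of_pow_lt_pow_left₀ 2 (by norm_num) h1

/-- Twelve bins for the argument of a complex number. -/
noncomputable def argBin (z : ℂ) : Fin 12 :=
  ⟨(⌈(Complex.arg z + Real.pi) * 6 / Real.pi⌉ - 1).toNat, by
    have h1 := Complex.arg_le_pi z
    have h2 : ⌈(Complex.arg z + Real.pi) * 6 / Real.pi⌉ ≤ (12 : ℤ) := by
      rw [Int.ceil_le]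
      push_cast
      rw [div_le_iff₀ Real.pi_pos]
      linarith
    omega⟩

theorem near_of_argBin_eq {z w : ℂ} (hz : ‖z‖ = 1) (hw : ‖w‖ = 1) (h : argBin z = argBin w) :
    ‖w⁻¹ * z - ((Real.sqrt 3 / 2 : ℝ) : ℂ)‖ < 1 / 2 := by
  have hc : ∀ u : ℂ, 0 < ⌈(Complex.arg u + Real.pi) * 6 / Real.pi⌉ := fun u => by
    rw [Int.ceil_pos]
    have := Complex.neg_pi_lt_arg u
    exact div_pos (by linarith) Real.pi_pos
  have hceil : ⌈(Complex.arg z + Real.pi) * 6 / Real.pi⌉ =
      ⌈(Complex.arg w + Real.pi) * 6 / Real.pi⌉ := by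
    have h' := congrArg Fin.val h
    simp only [argBin] at h'
    have := hc z
    have := hc w
    omega
  have hθ : |Complex.arg z - Complex.arg w| < Real.pi / 6 := by
    have a1 := Int.le_ceil ((Complex.arg z + Real.pi) * 6 / Real.pi)
    have a2 := Int.ceil_lt_add_one ((Complex.arg z + Real.pi) * 6 / Real.pi)
    have b1 := Int.le_ceil ((Complex.arg w + Real.pi) * 6 / Real.pi)
    have b2 := Int.ceil_lt_add_one ((Complex.arg w + Real.pi) * 6 / Real.pi)
    rw [hceil] at a1 a2
    have hd : |(Complex.arg z + Real.pi) * 6 / Real.pi - (Complex.arg w + Real.pi) * 6 / Real.pi|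
        < 1 := by
      rw [abs_sub_lt_iff]
      constructor <;> linarith
    have he : (Complex.arg z + Real.pi) * 6 / Real.pi - (Complex.arg w + Real.pi) * 6 / Real.pi
        = (Complex.arg z - Complex.arg w) * (6 / Real.pi) := by ring
    rw [he, abs_mul, abs_of_pos (div_pos (by norm_num : (0:ℝ) < 6) Real.pi_pos),
      ← lt_div_iff₀ (div_pos (by norm_num : (0:ℝ) < 6) Real.pi_pos), one_div, inv_div] at hd
    exact hd
  convert norm_sub_cos_lt hθ using 3
  have hz' := Complex.norm_mul_exp_arg_mul_I z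
  have hw' := Complex.norm_mul_exp_arg_mul_I w
  rw [hz, Complex.ofReal_one, one_mul] at hz'
  rw [hw, Complex.ofReal_one, one_mul] at hw'
  conv_lhs => rw [← hz', ← hw', ← Complex.exp_neg, ← Complex.exp_add]
  congr 1
  push_cast
  ring

theorem exists_abelian_normal_inner (hX : IsUnitaryHom X) (hinj : Function.Injective X) :
    ∃ A : Subgroup G, A.Normal ∧ (∀ x ∈ A, ∀ y ∈ A, x * y = y * x) ∧
      ∀ H : Subgroup G, (∀ x ∈ H, ∀ y ∈ H, x * y = y * x) →
        (A.subgroupOf H).index ≤ 12 ^ Module.finrank ℂ E := by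
  classical
  refine ⟨Subgroup.closure {g | NearScalar X g}, ?_, ?_, ?_⟩
  · refine ⟨fun n hn g => ?_⟩
    induction hn using Subgroup.closure_induction with
    | mem a ha => exact Subgroup.subset_closure (ha.conj hX g)
    | one => simp
    | mul a b _ _ iha ihb =>
      have := Subgroup.mul_mem _ iha ihb
      simpa [mul_assoc] using this
    | inv a _ iha =>
      have := Subgroup.inv_mem _ iha
      simpa [mul_assoc] using this
  · intro x hx y hy
    have : IsMulCommutative (Subgroup.closure {g | NearScalar X g}) :=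
      Subgroup.isMulCommutative_closure fun a ha b hb => (near_commute hX hinj ha hb).eq
    exact congrArg Subtype.val (mul_comm' (⟨x, hx⟩ : Subgroup.closure {g | NearScalar X g}) ⟨y, hy⟩)
  intro H hH
  haveI : Fintype G := Fintype.ofFinite G
  rcases subsingleton_or_nontrivial E with hE | hE
  · have : Subsingleton G := by
      refine ⟨fun a b => hinj ?_⟩
      exact ContinuousLinearMap.ext fun v => Subsingleton.elim _ _
    have : Subsingleton H := inferInstance
    rw [Subsingleton.elim ((Subgroup.closure {g | NearScalar X g}).subgroupOf H) ⊤,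
      Subgroup.index_top]
    exact Nat.one_le_pow _ _ (by norm_num)
  let Λ := {f : H → ℂ // ∃ v : E, v ≠ 0 ∧ ∀ h : H, X (h : G) v = f h • v}
  let v : Λ → E := fun f => Classical.choose f.2
  have hv : ∀ f : Λ, v f ≠ 0 ∧ ∀ h : H, X (h : G) (v f) = f.1 h • v f := fun f =>
    Classical.choose_spec f.2
  let T : H → Module.End ℂ E := fun h => (X (h : G) : E →ₗ[ℂ] E)
  have hTc : ∀ a b : H, Commute (T a) (T b) := by
    intro a b
    ext u
    show X (a : G) (X (b : G) u) = X (b : G) (X (a : G) u)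
    rw [← ContinuousLinearMap.mul_apply, ← map_mul, hH _ a.2 _ b.2, map_mul]
    rfl
  have hli : LinearIndependent ℂ v := by
    have hind := Module.End.independent_iInf_maxGenEigenspace_of_forall_mapsTo T
      (fun i j φ => Module.End.mapsTo_maxGenEigenspace_of_comm (hTc j i) φ)
    refine iSupIndep.linearIndependent (fun f : Λ => ⨅ h, (T h).maxGenEigenspace (f.1 h))
      (hind.comp Subtype.val_injective) (fun f => ?_) (fun f => (hv f).1)
    rw [Submodule.mem_iInf]
    intro h
    exact Module.End.eigenspace_le_maxGenEigenspace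
      (Module.End.mem_eigenspace_iff.2 ((hv f).2 h))
  haveI : Finite Λ := hli.finite
  haveI : Fintype Λ := Fintype.ofFinite Λ
  have hcard : Fintype.card Λ ≤ Module.finrank ℂ E := hli.fintype_card_le_finrank
  let bins : H → (Λ → Fin 12) := fun h f => argBin (f.1 h)
  have hnorm : ∀ (f : Λ) (h : H), ‖f.1 h‖ = 1 := by
    intro f h
    have h1 := hX.norm_map (h : G) (v f)
    rw [(hv f).2 h, norm_smul] at h1
    exact mul_right_cancel₀ (norm_ne_zero_iff.2 (hv f).1) (h1.trans (one_mul _).symm)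
  have key : ∀ a b : H, bins a = bins b →
      (QuotientGroup.mk a : H ⧸ (Subgroup.closure {g | NearScalar X g}).subgroupOf H) =
        QuotientGroup.mk b := by
    intro a b hab
    rw [QuotientGroup.eq]
    show (((a⁻¹ * b : H) : G)) ∈ Subgroup.closure {g | NearScalar X g}
    apply Subgroup.subset_closure
    set u : H := a⁻¹ * b with hu
    refine ⟨((Real.sqrt 3 / 2 : ℝ) : ℂ), ?_⟩
    set c : ℂ := ((Real.sqrt 3 / 2 : ℝ) : ℂ) with hc
    haveI hnorm' : IsStarNormal (X (u : G) - c • (1 : E →L[ℂ] E)) := by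
      refine ⟨?_⟩
      rw [star_sub, star_smul, star_one, hX.star_eq]
      have h0 : Commute (X ((u : G)⁻¹)) (X (u : G)) := by
        rw [Commute, SemiconjBy, ← map_mul, ← map_mul, inv_mul_cancel, mul_inv_cancel]
      exact Commute.sub_left (Commute.sub_right h0 ((Commute.one_right _).smul_right _))
        (((Commute.one_left _).smul_left _).sub_right (((Commute.one_left _).smul_left _)))
    obtain ⟨μ, hμ, hμr⟩ :=
      spectrum.exists_nnnorm_eq_spectralRadius (X (u : G) - c • (1 : E →L[ℂ] E))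
    rw [IsStarNormal.spectralRadius_eq_nnnorm, ENNReal.coe_inj] at hμr
    have hμr' : ‖μ‖ = ‖X (u : G) - c • (1 : E →L[ℂ] E)‖ := congrArg NNReal.toReal hμr
    rw [← hμr']
    have hmem : μ + c ∈ spectrum ℂ (X (u : G)) := by
      rw [← Algebra.algebraMap_eq_smul_one, ← spectrum.sub_singleton_eq,
        Set.sub_singleton] at hμ
      obtain ⟨t, ht, rfl⟩ := hμ
      rwa [sub_add_cancel]
    rw [← AlgEquiv.spectrum_eq (Module.End.toContinuousLinearMap E).symm,
      ← Module.End.hasEigenvalue_iff_mem_spectrum] at hmem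
    have hW : Module.End.eigenspace (T u) (μ + c) ≠ ⊥ := hmem
    obtain ⟨w, hwW, hw0, hwev⟩ := exists_common_eigvec (G := H) T Finset.univ
      (fun a _ b _ => hTc a b) _ hW (fun a _ x hx => by
        rw [Module.End.mem_eigenspace_iff] at hx ⊢
        rw [← Module.End.mul_apply, (hTc u a).eq, Module.End.mul_apply, hx, map_smul])
    choose μf hμf using fun h : H => hwev h (Finset.mem_univ h)
    let f : Λ := ⟨μf, w, hw0, hμf⟩
    have hfu : μf u = μ + c := by
      have h1 := Module.End.mem_eigenspace_iff.1 hwW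
      rw [hμf u] at h1
      exact smul_left_injective ℂ hw0 h1
    have hmul : μf b = μf a * μf u := by
      have h1 : X (b : G) w = (μf a * μf u) • w := by
        have : (b : G) = (a : G) * (u : G) := by simp [hu]
        rw [this, map_mul, ContinuousLinearMap.mul_apply]
        show T a (T u w) = _
        rw [hμf u, map_smul, hμf a, smul_smul, mul_comm]
      have h2 : X (b : G) w = μf b • w := hμf b
      exact smul_left_injective ℂ hw0 (h2.symm.trans h1)
    have ha0 : μf a ≠ 0 := fun h => by simpa [f, h] using hnorm f a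
    have hbin : argBin (μf b) = argBin (μf a) := (congrFun hab f).symm
    have := near_of_argBin_eq (hnorm f b) (hnorm f a) hbin
    change ‖(μf a)⁻¹ * μf b - _‖ < _ at this
    rw [hmul, ← mul_assoc, inv_mul_cancel₀ ha0, one_mul, hfu, add_sub_cancel_right] at this
    exact this
  calc ((Subgroup.closure {g | NearScalar X g}).subgroupOf H).index
      ≤ Nat.card (Λ → Fin 12) := by
        rw [Subgroup.index]
        refine Nat.card_le_card_of_injective (fun q => bins q.out) fun q r hqr => ?_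
        rw [← QuotientGroup.out_eq' q, ← QuotientGroup.out_eq' r]
        exact key _ _ hqr
    _ = 12 ^ Fintype.card Λ := by simp
    _ ≤ 12 ^ Module.finrank ℂ E := Nat.pow_le_pow_right (by norm_num) hcard

/-- Every representation of a finite group is equivalent to a unitary one. -/
theorem exists_unitary_model [Fintype G] {V : Type*} [AddCommGroup V] [Module ℂ V] [FiniteDimensional ℂ V]
    (ρ : Representation ℂ G V) :
    ∃ (F : Submodule ℂ (EuclideanSpace ℂ (G × Fin (Module.finrank ℂ V))))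
      (X : G →* (F →L[ℂ] F)), IsUnitaryHom (E := F) X ∧ Module.finrank ℂ F = Module.finrank ℂ V ∧
      ∀ g, X g = 1 → ρ g = 1 := by
  classical
  let b := Module.finBasis ℂ V
  let ι : V →ₗ[ℂ] EuclideanSpace ℂ (G × Fin (Module.finrank ℂ V)) :=
    (WithLp.linearEquiv 2 ℂ (G × Fin (Module.finrank ℂ V) → ℂ)).symm.toLinearMap ∘ₗ
      LinearMap.pi fun gi : G × Fin (Module.finrank ℂ V) =>
        (LinearMap.proj gi.2) ∘ₗ b.equivFun.toLinearMap ∘ₗ ρ gi.1
  have hι : ∀ v gi, ι v gi = b.equivFun (ρ gi.1 v) gi.2 := fun v gi => rfl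
  have hinjι : Function.Injective ι := by
    intro u v huv
    apply b.equivFun.injective
    funext i
    have := congrArg (fun f : EuclideanSpace ℂ (G × Fin (Module.finrank ℂ V)) => f (1, i)) huv
    simpa [hι] using this
  let e : V ≃ₗ[ℂ] LinearMap.range ι := LinearEquiv.ofInjective ι hinjι
  let Y : G →* Module.End ℂ (LinearMap.range ι) :=
    (e.conjAlgEquiv ℂ).toMonoidHom.comp ρ
  let X : G →* ((LinearMap.range ι) →L[ℂ] (LinearMap.range ι)) :=
    (Module.End.toContinuousLinearMap (LinearMap.range ι)).toMonoidHom.comp Y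
  have hX : ∀ g v, X g (e v) = e (ρ g v) := by
    intro g v
    show e (ρ g (e.symm (e v))) = _
    rw [e.symm_apply_apply]
  refine ⟨LinearMap.range ι, X, ?_, e.finrank_eq.symm, ?_⟩
  · intro g u v
    obtain ⟨u, rfl⟩ := e.surjective u
    obtain ⟨v, rfl⟩ := e.surjective v
    rw [hX, hX, Submodule.coe_inner, Submodule.coe_inner]
    show ⟪ι (ρ g u), ι (ρ g v)⟫_ℂ = ⟪ι u, ι v⟫_ℂ
    rw [PiLp.inner_apply, PiLp.inner_apply, Fintype.sum_prod_type, Fintype.sum_prod_type]
    refine Fintype.sum_equiv (Equiv.mulRight g) _ _ fun h => ?_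
    refine Finset.sum_congr rfl fun i _ => ?_
    simp only [Equiv.coe_mulRight, hι, map_mul, Module.End.mul_apply]
  · intro g hg
    refine LinearMap.ext fun v => e.injective ?_
    rw [← hX, hg]
    rfl

/-- Frobenius' lemma for an injective representation. -/
theorem exists_abelian_normal_abelian_index_le {V : Type*} [AddCommGroup V] [Module ℂ V]
    [FiniteDimensional ℂ V] (ρ : Representation ℂ G V) (hρ : ∀ g, ρ g = 1 → g = 1) :
    ∃ A : Subgroup G, A.Normal ∧ (∀ x ∈ A, ∀ y ∈ A, x * y = y * x) ∧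
      ∀ H : Subgroup G, (∀ x ∈ H, ∀ y ∈ H, x * y = y * x) →
        (A.subgroupOf H).index ≤ 12 ^ Module.finrank ℂ V := by
  haveI : Fintype G := Fintype.ofFinite G
  obtain ⟨F, X, hX, hd, hk⟩ := exists_unitary_model ρ
  have hinj : Function.Injective X := by
    intro a b hab
    have h1 : X (a⁻¹ * b) = 1 := by rw [map_mul, ← hab, ← map_mul, inv_mul_cancel, map_one]
    exact inv_mul_eq_one.1 (hρ _ (hk _ h1))
  rw [← hd]
  exact exists_abelian_normal_inner hX hinj

end Cfsg.Agent.Lib.Jordan
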