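import Mathlib
import Cfsg.Agent.Lib.Jordan.Frobenius

/-!
# Finite p-groups of degree n have an abelian subgroup of index dividing n!
-/

set_option autoImplicit false

namespace Cfsg.Agent.Lib.Jordan

open scoped InnerProductSpace
open Module

variable {G : Type*} [Group G] [Finite G]
variable {E : Type*} [NormedAddCommGroup E] [InnerProductSpace ℂ E] [FiniteDimensional ℂ E]
  [CompleteSpace E]

theorem dvd_of_prime_pow_le {p a b : ℕ} (hp : p.Prime) (ha : ∃ i, a = p ^ i) (hb : ∃ j, b = p ^ j)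
    (h : a ≤ b) : a ∣ b := by
  obtain ⟨i, rfl⟩ := ha
  obtain ⟨j, rfl⟩ := hb
  exact pow_dvd_pow p ((Nat.pow_le_pow_iff_right hp.one_lt).1 h)

theorem exists_relIndex_prime_pow {p : ℕ} [Fact p.Prime] (hG : IsPGroup p G) (B K : Subgroup G) :
    ∃ i, B.relIndex K = p ^ i := by
  obtain ⟨n, hn⟩ := (hG.to_subgroup K).index (B.subgroupOf K)
  exact ⟨n, hn⟩

theorem relIndex_inf_dvd {p : ℕ} [hp : Fact p.Prime] (hG : IsPGroup p G) (B C K : Subgroup G) :
    (B ⊓ C).relIndex K ∣ B.relIndex K * C.relIndex K := by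
  obtain ⟨i, hi⟩ := exists_relIndex_prime_pow hG B K
  obtain ⟨j, hj⟩ := exists_relIndex_prime_pow hG C K
  exact dvd_of_prime_pow_le hp.out (exists_relIndex_prime_pow hG _ K)
    ⟨i + j, by rw [hi, hj, pow_add]⟩ Subgroup.relIndex_inf_le

theorem factorial_pow_mul_factorial_dvd (k : ℕ) {d : ℕ} (hd : d ≠ 0) :
    (d.factorial) ^ k * k.factorial ∣ (k * d).factorial :=
  ⟨Nat.uniformBell k d, by rw [← Nat.uniformBell_mul_eq k hd]; ring⟩

variable {X : G →* (E →L[ℂ] E)}

/-- `W` is stable under `K`. -/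
def StableUnder (X : G →* (E →L[ℂ] E)) (K : Subgroup G) (W : Submodule ℂ E) : Prop :=
  ∀ g ∈ K, ∀ w ∈ W, X g w ∈ W

omit [Finite G] [FiniteDimensional ℂ E] in
theorem IsUnitaryHom.stableUnder_orthogonal (hX : IsUnitaryHom X) {K : Subgroup G}
    {U : Submodule ℂ E} (hU : StableUnder X K U) : StableUnder X K Uᗮ := by
  intro g hg w hw
  rw [Submodule.mem_orthogonal] at hw ⊢
  intro u hu
  rw [← hX g⁻¹, ← ContinuousLinearMap.mul_apply (X g⁻¹) (X g) w, ← map_mul, inv_mul_cancel,
    map_one]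
  exact hw _ (hU g⁻¹ (inv_mem hg) u hu)

omit [CompleteSpace E] in
theorem exists_abelian_on_aux (hX : IsUnitaryHom X) {p : ℕ} [hp : Fact p.Prime]
    (hG : IsPGroup p G) :
    ∀ n : ℕ, ∀ W : Submodule ℂ E, finrank ℂ W = n → ∀ K : Subgroup G, StableUnder X K W →
      ∃ B : Subgroup G, B ≤ K ∧ (∀ a ∈ B, ∀ b ∈ B, ∀ w ∈ W, X a (X b w) = X b (X a w)) ∧
        B.relIndex K ∣ n.factorial := by
  classical
  intro n
  induction n using Nat.strong_induction_on with | _ n ih => ?_
  intro W hn K hW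
  by_cases hcomm : ∀ a ∈ K, ∀ b ∈ K, ∀ w ∈ W, X a (X b w) = X b (X a w)
  · exact ⟨K, le_rfl, hcomm, by simp⟩
  by_cases hred : ∃ U : Submodule ℂ E, U ≠ ⊥ ∧ U < W ∧ StableUnder X K U
  · obtain ⟨U, hU0, hUW, hU⟩ := hred
    have hV : StableUnder X K (Uᗮ ⊓ W) := fun g hg w hw =>
      ⟨(haveI := FiniteDimensional.complete ℂ E; hX.stableUnder_orthogonal hU) g hg w hw.1,
        hW g hg w hw.2⟩
    have hdim : finrank ℂ U + finrank ℂ (Uᗮ ⊓ W : Submodule ℂ E) = n := by
      rw [Submodule.finrank_add_inf_finrank_orthogonal hUW.le, hn]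
    have h1 : finrank ℂ U < n := hn ▸ Submodule.finrank_lt_finrank_of_lt hUW
    have h2 : 0 < finrank ℂ U := by
      rw [Module.finrank_pos_iff, Submodule.nontrivial_iff_ne_bot]; exact hU0
    obtain ⟨B₁, hB₁K, hB₁, hd₁⟩ := ih _ h1 U rfl K hU
    obtain ⟨B₂, hB₂K, hB₂, hd₂⟩ := ih _ (by omega) (Uᗮ ⊓ W) rfl K hV
    refine ⟨B₁ ⊓ B₂, inf_le_left.trans hB₁K, ?_, ?_⟩
    · intro a ha b hb w hw
      have hWe : W = U ⊔ (Uᗮ ⊓ W) := (Submodule.sup_orthogonal_inf_of_hasOrthogonalProjection hUW.le).symm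
      rw [hWe] at hw
      obtain ⟨u, hu, v, hv, rfl⟩ := Submodule.mem_sup.1 hw
      simp only [map_add]
      rw [hB₁ a ha.1 b hb.1 u hu, hB₂ a ha.2 b hb.2 v hv]
    · refine ((relIndex_inf_dvd hG B₁ B₂ K).trans (mul_dvd_mul hd₁ hd₂)).trans ?_
      rw [← hdim]
      exact Nat.factorial_mul_factorial_dvd_factorial_add _ _
  push Not at hred
  -- the subgroup acting trivially on W
  let N : Subgroup K :=
    { carrier := {g | ∀ w ∈ W, X (g : G) w = w}
      one_mem' := fun w _ => by simp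
      mul_mem' := fun {a b} ha hb w hw => by
        rw [Subgroup.coe_mul, map_mul, ContinuousLinearMap.mul_apply, hb w hw, ha w hw]
      inv_mem' := fun {a} ha w hw => by
        conv_lhs => rw [← ha w hw]
        rw [← ContinuousLinearMap.mul_apply, ← map_mul, Subgroup.coe_inv, inv_mul_cancel, map_one]
        rfl }
  have hNn : N.Normal := ⟨fun a ha g w hw => by
    simp only [Subgroup.coe_mul, Subgroup.coe_inv, map_mul, ContinuousLinearMap.mul_apply]
    rw [ha _ (hW _ (inv_mem g.2) w hw), ← ContinuousLinearMap.mul_apply, ← map_mul, mul_inv_cancel,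
      map_one]
    rfl⟩
  let π := QuotientGroup.mk' N
  have hπ : ∀ a b : K, π a = π b ↔ ∀ w ∈ W, X (a : G) w = X (b : G) w := by
    intro a b
    rw [QuotientGroup.mk'_apply, QuotientGroup.mk'_apply, QuotientGroup.eq]
    constructor
    · intro h w hw
      have h' := congrArg (X (a : G)) (h w hw)
      rw [← ContinuousLinearMap.mul_apply, ← map_mul] at h'
      simpa using h'.symm
    · intro h w hw
      show X ((a⁻¹ * b : K) : G) w = w
      rw [Subgroup.coe_mul, map_mul, ContinuousLinearMap.mul_apply, ← h w hw,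
        ← ContinuousLinearMap.mul_apply, ← map_mul]
      simp
  have hπc : ∀ a b : K, Commute (π a) (π b) ↔
      ∀ w ∈ W, X (a : G) (X (b : G) w) = X (b : G) (X (a : G) w) := by
    intro a b
    rw [commute_iff_eq, ← map_mul, ← map_mul, hπ]
    simp [map_mul]
  have hQ : IsPGroup p (K ⧸ N) := (hG.to_subgroup K).to_quotient N
  have hncomm : Subgroup.center (K ⧸ N) ≠ ⊤ := by
    intro h
    apply hcomm
    intro a ha b hb
    refine (hπc ⟨a, ha⟩ ⟨b, hb⟩).1 ?_
    exact (Subgroup.mem_center_iff.1 (h ▸ Subgroup.mem_top (π ⟨a, ha⟩)) (π ⟨b, hb⟩)).symm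
  obtain ⟨z, hzc, hz⟩ : ∃ z : K ⧸ N, z ∉ Subgroup.center (K ⧸ N) ∧
      ∀ g, g * z * g⁻¹ * z⁻¹ ∈ Subgroup.center (K ⧸ N) := by
    haveI : Nontrivial ((K ⧸ N) ⧸ Subgroup.center (K ⧸ N)) :=
      QuotientGroup.nontrivial_iff.2 hncomm
    haveI := (hQ.to_quotient (Subgroup.center (K ⧸ N))).center_nontrivial
    obtain ⟨⟨c, hc⟩, hc1⟩ := exists_ne (1 : Subgroup.center ((K ⧸ N) ⧸ Subgroup.center (K ⧸ N)))
    obtain ⟨z, rfl⟩ := QuotientGroup.mk_surjective c
    refine ⟨z, fun h => hc1 (Subtype.ext ((QuotientGroup.eq_one_iff z).2 h)), fun g => ?_⟩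
    rw [← QuotientGroup.eq_one_iff]
    have := Subgroup.mem_center_iff.1 hc g
    simp only [QuotientGroup.mk_mul, QuotientGroup.mk_inv]
    rw [this]; group
  let A : Subgroup (K ⧸ N) := Subgroup.center (K ⧸ N) ⊔ Subgroup.zpowers z
  have hAc : ∀ a ∈ A, ∀ b ∈ A, Commute a b := by
    have h1 : A ≤ Subgroup.centralizer ({z} : Set (K ⧸ N)) := sup_le
      (Subgroup.center_le_centralizer _)
      ((Subgroup.zpowers_le).2 (Subgroup.mem_centralizer_iff.2 (by simp)))
    have h2 : A ≤ Subgroup.centralizer (A : Set (K ⧸ N)) := by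
      refine sup_le (Subgroup.center_le_centralizer _) (Subgroup.zpowers_le.2 ?_)
      rw [Subgroup.mem_centralizer_iff]
      intro b hb
      exact (Subgroup.mem_centralizer_iff.1 (h1 hb) z rfl).symm
    exact fun a ha b hb => Subgroup.mem_centralizer_iff.1 (h2 hb) a ha
  have hAn : ∀ g, ∀ a ∈ A, g * a * g⁻¹ ∈ A := by
    intro g a ha
    have hle : A ≤ A.comap (MulAut.conj g).toMonoidHom := by
      refine sup_le (fun c hc => ?_) (Subgroup.zpowers_le.2 ?_)
      · show g * c * g⁻¹ ∈ A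
        rw [Subgroup.mem_center_iff.1 hc g, mul_inv_cancel_right]
        exact Subgroup.mem_sup_left hc
      · show g * z * g⁻¹ ∈ A
        have := Subgroup.mul_mem _ (Subgroup.mem_sup_left (T := Subgroup.zpowers z) (hz g))
          (Subgroup.mem_sup_right (S := Subgroup.center (K ⧸ N)) (Subgroup.mem_zpowers z))
        simpa [A] using this
    exact hle ha
  let B₀ : Subgroup K := A.comap π
  have hB₀c : ∀ a b : B₀, ∀ w ∈ W,
      X ((a : K) : G) (X ((b : K) : G) w) = X ((b : K) : G) (X ((a : K) : G) w) := fun a b =>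
    (hπc _ _).1 (hAc _ a.2 _ b.2)
  obtain ⟨z', rfl⟩ := QuotientGroup.mk'_surjective N z
  have hz'B : z' ∈ B₀ := Subgroup.mem_sup_right (Subgroup.mem_zpowers _)
  -- common eigenspaces of B₀
  let Wf : (B₀ → ℂ) → Submodule ℂ E := fun f =>
    W ⊓ ⨅ b : B₀, Module.End.eigenspace (X ((b : K) : G) : E →ₗ[ℂ] E) (f b)
  have hWf : ∀ f w, w ∈ Wf f ↔ w ∈ W ∧ ∀ b : B₀, X ((b : K) : G) w = f b • w := by
    intro f w
    simp only [Wf, Submodule.mem_inf, Submodule.mem_iInf, Module.End.mem_eigenspace_iff]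
    rfl
  have hWne : W ≠ ⊥ := by
    intro h
    apply hcomm
    intro a _ b _ w hw
    rw [h, Submodule.mem_bot] at hw
    simp [hw]
  have hex : ∃ f, Wf f ≠ ⊥ := by
    let T : B₀ → Module.End ℂ W := fun b =>
      (X ((b : K) : G) : E →ₗ[ℂ] E).restrict (fun w hw => hW _ (b : K).2 w hw)
    haveI : Fintype B₀ := Fintype.ofFinite _
    haveI : Nontrivial W := Submodule.nontrivial_iff_ne_bot.2 hWne
    obtain ⟨v, -, hv0, hv⟩ := exists_common_eigvec (G := B₀) T Finset.univ
      (fun a _ b _ => LinearMap.ext fun w => Subtype.ext (hB₀c a b w w.2)) ⊤ (bot_ne_top.symm)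
      (fun _ _ _ _ => Submodule.mem_top)
    choose f hf using fun b : B₀ => hv b (Finset.mem_univ b)
    refine ⟨f, (Submodule.ne_bot_iff _).2 ⟨(v : E), (hWf f v).2 ⟨v.2, fun b => ?_⟩, ?_⟩⟩
    · exact congrArg Subtype.val (hf b)
    · exact fun h => hv0 (Subtype.ext h)
  obtain ⟨f₀, hf₀⟩ := hex
  let act : K → (B₀ → ℂ) → (B₀ → ℂ) := fun g f b =>
    f ⟨g⁻¹ * b * g, by
      have := hAn (π g⁻¹) _ b.2
      simpa [B₀, π] using this⟩
  have hact_mul : ∀ g h f, act (g * h) f = act g (act h f) := by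
    intro g h f
    funext b
    simp only [act]
    congr 1
    apply Subtype.ext
    simp [mul_assoc]
  have hact_one : ∀ f, act 1 f = f := by
    intro f; funext b; simp [act]
  have hmap : ∀ (g : K) f w, w ∈ Wf f → X (g : G) w ∈ Wf (act g f) := by
    intro g f w hw
    obtain ⟨hwW, hwf⟩ := (hWf f w).1 hw
    refine (hWf _ _).2 ⟨hW _ g.2 w hwW, fun b => ?_⟩
    let b' : B₀ := ⟨g⁻¹ * b * g, by have := hAn (π g⁻¹) _ b.2; simpa [B₀, π] using this⟩
    have h1 : X ((b : K) : G) (X (g : G) w) = X (g : G) (X ((b' : K) : G) w) := by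
      rw [← ContinuousLinearMap.mul_apply, ← ContinuousLinearMap.mul_apply, ← map_mul, ← map_mul]
      simp [b', mul_assoc]
    rw [h1, hwf b', map_smul]
  let S := Set.range (fun g : K => act g f₀)
  haveI : Fintype S := Fintype.ofFinite S
  let U : Submodule ℂ E := ⨆ f : S, Wf f
  have hUW : U ≤ W := iSup_le fun f => inf_le_left
  have hUst : StableUnder X K U := by
    intro g hg w hw
    have hle : U ≤ U.comap (X g : E →ₗ[ℂ] E) := by
      refine iSup_le fun f v hv => ?_
      obtain ⟨h, hh⟩ := f.2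
      exact le_iSup (fun f : S => Wf f) ⟨act ⟨g, hg⟩ f, ⟨⟨g, hg⟩ * h, by simp [hact_mul, ← hh]⟩⟩
        (hmap ⟨g, hg⟩ f v hv)
    exact hle hw
  have hf₀S : f₀ ∈ S := ⟨1, hact_one f₀⟩
  have hU : U = W := by
    refine eq_of_le_of_not_lt hUW fun hlt => ?_
    refine hred U ?_ hlt hUst
    exact fun h => hf₀ (le_bot_iff.1 (h ▸ le_iSup (fun f : S => Wf f) ⟨f₀, hf₀S⟩))
  set d := finrank ℂ (Wf f₀) with hd
  have hlt : Wf f₀ < W := by
    refine lt_of_le_of_ne inf_le_left fun h => ?_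
    apply hzc
    rw [Subgroup.mem_center_iff]
    intro g
    obtain ⟨g, rfl⟩ := QuotientGroup.mk'_surjective N g
    refine ((hπc g z').2 fun w hw => ?_).eq
    have h1 : ∀ v ∈ W, X (z' : G) v = f₀ ⟨z', hz'B⟩ • v := fun v hv =>
      ((hWf f₀ v).1 (h.symm ▸ hv)).2 ⟨z', hz'B⟩
    rw [h1 w hw, h1 _ (hW _ g.2 w hw), map_smul]
  have hdn : d < n := hn ▸ Submodule.finrank_lt_finrank_of_lt hlt
  have hdim : ∀ f : S, finrank ℂ (Wf f) = d := by
    rintro ⟨_, g, rfl⟩
    have hle1 : ∀ (g : K) f, finrank ℂ (Wf f) ≤ finrank ℂ (Wf (act g f)) := by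
      intro g f
      let φ : Wf f →ₗ[ℂ] Wf (act g f) :=
        ((X (g : G) : E →ₗ[ℂ] E) ∘ₗ (Wf f).subtype).codRestrict _ (fun v => hmap g f v v.2)
      refine LinearMap.finrank_le_finrank_of_injective (f := φ) fun u v huv => ?_
      apply Subtype.ext
      have h' : X (g : G) (u : E) = X (g : G) (v : E) := congrArg Subtype.val huv
      have h'' := congrArg (X ((g : G)⁻¹)) h'
      rw [← ContinuousLinearMap.mul_apply, ← ContinuousLinearMap.mul_apply, ← map_mul,
        inv_mul_cancel, map_one] at h''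
      exact h''
    refine le_antisymm ?_ (hle1 g f₀)
    have := hle1 g⁻¹ (act g f₀)
    rwa [← hact_mul, inv_mul_cancel, hact_one] at this
  have hind : iSupIndep (fun f : S => Wf f) := by
    let T : B₀ → Module.End ℂ W := fun b =>
      (X ((b : K) : G) : E →ₗ[ℂ] E).restrict (fun w hw => hW _ (b : K).2 w hw)
    have h0 := Module.End.independent_iInf_maxGenEigenspace_of_forall_mapsTo T
      (fun i j φ => Module.End.mapsTo_maxGenEigenspace_of_comm
        (LinearMap.ext fun w => Subtype.ext (hB₀c j i w w.2)) φ)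
    have h1 := (LinearMap.iSupIndep_map W.subtype W.injective_subtype h0).comp
      (Subtype.val_injective : Function.Injective (Subtype.val : S → _))
    refine h1.mono fun f v hv => ?_
    obtain ⟨hvW, hvf⟩ := (hWf f v).1 hv
    refine ⟨⟨v, hvW⟩, ?_, rfl⟩
    rw [SetLike.mem_coe, Submodule.mem_iInf]
    intro b
    exact Module.End.eigenspace_le_maxGenEigenspace
      (Module.End.mem_eigenspace_iff.2 (Subtype.ext (hvf b)))
  have hkd : Fintype.card S * d ≤ n := by
    have h1 : ∀ f : S, ∃ e : Fin d → E, LinearIndependent ℂ e ∧ ∀ i, e i ∈ Wf f := by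
      intro f
      let b := Module.finBasisOfFinrankEq ℂ (Wf f) (hdim f)
      exact ⟨fun i => (b i : E), b.linearIndependent.map' (Wf f).subtype (Submodule.ker_subtype _),
        fun i => (b i).2⟩
    choose e he hem using h1
    have hli : LinearIndependent ℂ (fun x : Σ _ : S, Fin d => e x.1 x.2) := by
      refine linearIndependent_iUnion_finite he fun f t _ hft => ?_
      have hsp : ∀ j, Submodule.span ℂ (Set.range (e j)) ≤ Wf j := fun j =>
        Submodule.span_le.2 (by rintro _ ⟨i, rfl⟩; exact hem j i)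
      exact (hind f).mono (hsp f) (iSup₂_le fun j hj =>
        (hsp j).trans (le_iSup₂_of_le j (fun h : j = f => hft (h ▸ hj)) le_rfl))
    have h2 : finrank ℂ (Submodule.span ℂ (Set.range fun x : Σ _ : S, Fin d => e x.1 x.2)) =
        Fintype.card (Σ _ : S, Fin d) := finrank_span_eq_card hli
    have h3 : Submodule.span ℂ (Set.range fun x : Σ _ : S, Fin d => e x.1 x.2) ≤ W :=
      Submodule.span_le.2 (by rintro _ ⟨x, rfl⟩; exact ((hWf _ _).1 (hem x.1 x.2)).1)
    have := Submodule.finrank_mono h3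
    rw [h2, hn] at this
    simpa using this
  -- kernel of the permutation action
  let toPerm : K →* Equiv.Perm S :=
    { toFun := fun g =>
        { toFun := fun f => ⟨act g f, by
            obtain ⟨h, hh⟩ := f.2
            exact ⟨g * h, by simp [hact_mul, ← hh]⟩⟩
          invFun := fun f => ⟨act g⁻¹ f, by
            obtain ⟨h, hh⟩ := f.2
            exact ⟨g⁻¹ * h, by simp [hact_mul, ← hh]⟩⟩
          left_inv := fun f => Subtype.ext (by simp [← hact_mul, hact_one])
          right_inv := fun f => Subtype.ext (by simp [← hact_mul, hact_one]) }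
      map_one' := Equiv.ext fun f => Subtype.ext (hact_one f)
      map_mul' := fun g h => Equiv.ext fun f => Subtype.ext (hact_mul g h f) }
  let K₁ : Subgroup G := toPerm.ker.map K.subtype
  have hK₁K : K₁ ≤ K := Subgroup.map_subtype_le _
  have hK₁d : K₁.relIndex K ∣ (Fintype.card S).factorial := by
    have h1 : toPerm.ker.index ∣ Nat.card (Equiv.Perm S) := by
      rw [Subgroup.index_ker]; exact Subgroup.card_subgroup_dvd_card _
    rw [Nat.card_eq_fintype_card, Fintype.card_perm] at h1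
    show (K₁.subgroupOf K).index ∣ _
    rw [show K₁.subgroupOf K = toPerm.ker from
      Subgroup.comap_map_eq_self_of_injective K.subtype_injective _]
    exact h1
  have hst : ∀ f : S, StableUnder X K₁ (Wf f) := by
    rintro f g ⟨g', hg', rfl⟩ w hw
    have := hmap g' f w hw
    have hfix : act g' f = f := congrArg Subtype.val (Equiv.ext_iff.1 (MonoidHom.mem_ker.1 hg') f)
    rwa [hfix] at this
  have hBf : ∀ f : S, ∃ B : Subgroup G, B ≤ K₁ ∧
      (∀ a ∈ B, ∀ b ∈ B, ∀ w ∈ Wf f, X a (X b w) = X b (X a w)) ∧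
      B.relIndex K₁ ∣ d.factorial := fun f => ih d hdn _ (hdim f) K₁ (hst f)
  choose Bf hBf1 hBf2 hBf3 using hBf
  have hfin : ∀ s : Finset S, (K₁ ⊓ s.inf Bf).relIndex K₁ ∣ d.factorial ^ s.card := by
    intro s
    induction s using Finset.induction with
    | empty => simp
    | insert f s hfs ihs =>
      rw [Finset.inf_insert, Finset.card_insert_of_notMem hfs, pow_succ', inf_left_comm]
      exact (relIndex_inf_dvd hG _ _ _).trans (mul_dvd_mul (hBf3 f) ihs)
  refine ⟨K₁ ⊓ Finset.univ.inf Bf, inf_le_left.trans hK₁K, ?_, ?_⟩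
  · intro a ha b hb w hw
    rw [← hU] at hw
    have hle : U ≤ LinearMap.eqLocus
        ((X a : E →ₗ[ℂ] E) ∘ₗ (X b : E →ₗ[ℂ] E)) ((X b : E →ₗ[ℂ] E) ∘ₗ (X a : E →ₗ[ℂ] E)) :=
      iSup_le fun f v hv => hBf2 f a
        ((Finset.inf_le (Finset.mem_univ f) : Finset.univ.inf Bf ≤ Bf f) ha.2) b
        ((Finset.inf_le (Finset.mem_univ f) : Finset.univ.inf Bf ≤ Bf f) hb.2) v hv
    exact hle hw
  · rw [← Subgroup.relIndex_mul_relIndex _ _ _ inf_le_left hK₁K]
    refine ((mul_dvd_mul (hfin Finset.univ) hK₁d).trans ?_).trans (Nat.factorial_dvd_factorial hkd)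
    rw [Finset.card_univ]
    refine factorial_pow_mul_factorial_dvd _ ?_
    rw [hd, ne_eq, Submodule.finrank_eq_zero]
    exact hf₀

/-- A finite p-group acting faithfully in dimension `n` has an abelian subgroup of index
dividing `n!`. -/
theorem exists_abelian_index_dvd_factorial {V : Type*} [AddCommGroup V] [Module ℂ V]
    [FiniteDimensional ℂ V] (ρ : Representation ℂ G V) (hρ : ∀ g, ρ g = 1 → g = 1)
    {p : ℕ} [Fact p.Prime] (hG : IsPGroup p G) :
    ∃ B : Subgroup G, (∀ a ∈ B, ∀ b ∈ B, a * b = b * a) ∧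
      B.index ∣ (Module.finrank ℂ V).factorial := by
  haveI : Fintype G := Fintype.ofFinite G
  obtain ⟨F, X, hX, hd, hk⟩ := exists_unitary_model ρ
  obtain ⟨B, -, hB, hi⟩ := exists_abelian_on_aux hX hG _ (⊤ : Submodule ℂ F) rfl ⊤
    (fun _ _ _ _ => Submodule.mem_top)
  refine ⟨B, fun a ha b hb => ?_, ?_⟩
  · have h1 : X (a * b) = X (b * a) := by
      refine ContinuousLinearMap.ext fun w => ?_
      simpa [map_mul] using hB a ha b hb w Submodule.mem_top
    have h2 : X ((a * b)⁻¹ * (b * a)) = 1 := by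
      rw [map_mul, ← h1, ← map_mul, inv_mul_cancel, map_one]
    exact inv_mul_eq_one.1 (hρ _ (hk _ h2))
  · rwa [Subgroup.relIndex_top_right, finrank_top, hd] at hi

end Cfsg.Agent.Lib.Jordan
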