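import Mathlib
import Cfsg.Agent.Lib.Jordan.PGroup
import Cfsg.Agent.Lib.GaloisChar.Basic
import Cfsg.Agent.Lib.Chars.Integral

/-!
# Blichfeldt: abelian Hall subgroups for the primes exceeding degree + 1
-/

set_option autoImplicit false

namespace Cfsg.Agent.Lib.Jordan

open scoped ComplexConjugate
open Module
open Cfsg.Agent.Lib

universe u

/-- `G` has an abelian Hall subgroup for the primes larger than `b + 1`. -/
def HasLargePrimeHall (b : ℕ) (G : Type u) [Group G] : Prop :=
  ∃ A : Subgroup G, (∀ x ∈ A, ∀ y ∈ A, x * y = y * x) ∧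
    (∀ q : ℕ, q.Prime → q ∣ Nat.card A → b + 1 < q) ∧
    ∀ q : ℕ, q.Prime → q ∣ A.index → q ≤ b + 1

variable {b : ℕ} {G : Type u} [Group G] [Finite G]

theorem hasLargePrimeHall_of_subgroup (M : Subgroup G)
    (hM : ∀ q : ℕ, q.Prime → q ∣ M.index → q ≤ b + 1) (h : HasLargePrimeHall b M) :
    HasLargePrimeHall b G := by
  obtain ⟨A, hA, h1, h2⟩ := h
  refine ⟨A.map M.subtype, ?_, ?_, ?_⟩
  · rintro _ ⟨x, hx, rfl⟩ _ ⟨y, hy, rfl⟩
    simp only [← map_mul]; rw [hA x hx y hy]
  · intro q hq hd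
    rw [Subgroup.card_map_of_injective M.subtype_injective] at hd
    exact h1 q hq hd
  · intro q hq hd
    rw [Subgroup.index_map_subtype] at hd
    rcases (Nat.Prime.dvd_mul hq).1 hd with h | h
    · exact h2 q hq h
    · exact hM q hq h

theorem hasLargePrimeHall_of_pair (N₁ N₂ : Subgroup G) [N₁.Normal] [N₂.Normal]
    (hN : N₁ ⊓ N₂ = ⊥) (hsub : ∀ M : Subgroup G, M ≠ ⊤ → HasLargePrimeHall b M)
    (h1 : HasLargePrimeHall b (G ⧸ N₁)) (h2 : HasLargePrimeHall b (G ⧸ N₂)) :
    HasLargePrimeHall b G := by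
  obtain ⟨A₁, hA₁, hp₁, hi₁⟩ := h1
  obtain ⟨A₂, hA₂, hp₂, hi₂⟩ := h2
  by_cases hM₁ : A₁.comap (QuotientGroup.mk' N₁) = ⊤
  swap
  · refine hasLargePrimeHall_of_subgroup _ ?_ (hsub _ hM₁)
    rwa [Subgroup.index_comap_of_surjective _ (QuotientGroup.mk'_surjective N₁)]
  by_cases hM₂ : A₂.comap (QuotientGroup.mk' N₂) = ⊤
  swap
  · refine hasLargePrimeHall_of_subgroup _ ?_ (hsub _ hM₂)
    rwa [Subgroup.index_comap_of_surjective _ (QuotientGroup.mk'_surjective N₂)]
  let φ : G →* (G ⧸ N₁) × (G ⧸ N₂) := (QuotientGroup.mk' N₁).prod (QuotientGroup.mk' N₂)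
  have hφ : Function.Injective φ := by
    rw [← MonoidHom.ker_eq_bot_iff, MonoidHom.ker_prod, QuotientGroup.ker_mk',
      QuotientGroup.ker_mk', hN]
  have hmem₁ : ∀ g : G, (g : G ⧸ N₁) ∈ A₁ := fun g =>
    (Subgroup.mem_comap.1 (hM₁ ▸ Subgroup.mem_top g : g ∈ A₁.comap (QuotientGroup.mk' N₁)))
  have hmem₂ : ∀ g : G, (g : G ⧸ N₂) ∈ A₂ := fun g =>
    (Subgroup.mem_comap.1 (hM₂ ▸ Subgroup.mem_top g : g ∈ A₂.comap (QuotientGroup.mk' N₂)))
  refine ⟨⊤, fun x _ y _ => hφ ?_, fun q hq hd => ?_, fun q hq hd => ?_⟩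
  · refine Prod.ext ?_ ?_
    · show ((x * y : G) : G ⧸ N₁) = ((y * x : G) : G ⧸ N₁)
      simpa using hA₁ _ (hmem₁ x) _ (hmem₁ y)
    · show ((x * y : G) : G ⧸ N₂) = ((y * x : G) : G ⧸ N₂)
      simpa using hA₂ _ (hmem₂ x) _ (hmem₂ y)
  · rw [Subgroup.card_top] at hd
    have h' := hd.trans (Subgroup.card_dvd_of_injective φ hφ)
    rw [Nat.card_prod] at h'
    have e₁ : A₁ = ⊤ := (Subgroup.eq_top_iff' A₁).2 fun q =>
      QuotientGroup.induction_on q hmem₁
    have e₂ : A₂ = ⊤ := (Subgroup.eq_top_iff' A₂).2 fun q =>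
      QuotientGroup.induction_on q hmem₂
    rcases (Nat.Prime.dvd_mul hq).1 h' with h | h
    · exact hp₁ q hq (by rwa [e₁, Subgroup.card_top])
    · exact hp₂ q hq (by rwa [e₂, Subgroup.card_top])
  · rw [Subgroup.index_top] at hd
    exact absurd (Nat.dvd_one.1 hd) hq.ne_one

/-- Raising to the `k`-th power is what `σ` does to the character value. -/
theorem gal_char_eq_pow {V : Type*} [AddCommGroup V] [Module ℂ V] [FiniteDimensional ℂ V]
    (ρ : Representation ℂ G V) (σ : ℂ →+* ℂ) (k : ℕ) (g : G)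
    (hσ : ∀ ζ : ℂ, ζ ^ orderOf g = 1 → σ ζ = ζ ^ k) :
    σ (ρ.character g) = ρ.character (g ^ k) := by
  have hpow : (ρ g) ^ orderOf g = 1 := by rw [← map_pow, pow_orderOf_eq_one, map_one]
  obtain ⟨ι, hι, B, μ, hμ, hB⟩ :=
    Chars.exists_eigenbasis_of_pow_eq_one (ρ g) (orderOf_pos g) hpow
  have hBk : ∀ i, (ρ (g ^ k)) (B i) = μ i ^ k • B i := by
    intro i
    rw [map_pow]
    clear hσ
    induction k with
    | zero => simp
    | succ k ih => rw [pow_succ', Module.End.mul_apply, ih, map_smul, hB, smul_smul, ← pow_succ]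
  show σ (LinearMap.trace ℂ V (ρ g)) = LinearMap.trace ℂ V (ρ (g ^ k))
  rw [Chars.trace_eq_sum_of_eigenbasis _ B μ hB,
    Chars.trace_eq_sum_of_eigenbasis _ B (fun i => μ i ^ k) hBk, map_sum]
  exact Finset.sum_congr rfl fun i _ => hσ _ (hμ i)

/-- A nontrivial element of prime order `p > n + 1` has a non-rational character value. -/
theorem exists_pow_char_ne {V : Type*} [AddCommGroup V] [Module ℂ V] [FiniteDimensional ℂ V]
    (ρ : Representation ℂ G V) (hρ : ∀ g, ρ g = 1 → g = 1) {p : ℕ} (hp : p.Prime)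
    (hn : finrank ℂ V + 1 < p) {x : G} (hx : orderOf x = p) :
    ∃ j : ℕ, j.Coprime p ∧ ρ.character (x ^ j) ≠ ρ.character x := by
  by_contra h
  push Not at h
  haveI : Fintype (Subgroup.zpowers x) := Fintype.ofFinite _
  let ρ' : Representation ℂ (Subgroup.zpowers x) V := ρ.comp (Subgroup.zpowers x).subtype
  haveI : Invertible (Nat.card (Subgroup.zpowers x) : ℂ) :=
    invertibleOfNonzero (Nat.cast_ne_zero.2 Nat.card_pos.ne')
  have havg := ρ'.card_inv_mul_sum_char_eq_finrank
  have hcard : Nat.card (Subgroup.zpowers x) = p := by rw [Nat.card_zpowers, hx]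
  classical
  have hval : ∀ t : Subgroup.zpowers x,
      ρ'.character t = if t = 1 then (finrank ℂ V : ℂ) else ρ.character x := by
    intro t
    split_ifs with ht
    · rw [ht]; exact ρ'.char_one
    · obtain ⟨j, hj⟩ := (mem_powers_iff_mem_zpowers.2 t.2 : (t : G) ∈ Submonoid.powers x)
      show ρ.character (t : G) = _
      have hj' : x ^ j = (t : G) := hj
      rw [← hj']
      refine h j (((Nat.Prime.coprime_iff_not_dvd hp).2 fun hd => ht ?_).symm)
      apply Subtype.ext
      rw [← hj', Subgroup.coe_one]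
      exact orderOf_dvd_iff_pow_eq_one.1 (hx ▸ hd)
  rw [Finset.sum_congr rfl (fun t _ => hval t), ← Finset.add_sum_erase _ _ (Finset.mem_univ 1),
    if_pos rfl, Finset.sum_congr rfl (fun t ht => if_neg (Finset.ne_of_mem_erase ht)),
    Finset.sum_const, Finset.card_erase_of_mem (Finset.mem_univ _), Finset.card_univ,
    ← Nat.card_eq_fintype_card, hcard, nsmul_eq_mul] at havg
  set f := finrank ℂ (Representation.invariants ρ') with hfdef
  set n := finrank ℂ V with hndef
  have hfn : f ≤ n := Submodule.finrank_le _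
  have hp0 : (p : ℂ) ≠ 0 := Nat.cast_ne_zero.2 hp.pos.ne'
  have h1 : (n : ℂ) + ((p - 1 : ℕ) : ℂ) * ρ.character x = (p : ℂ) * f := by
    rw [← havg]; field_simp
  have hp1 : ((p - 1 : ℕ) : ℂ) ≠ 0 := Nat.cast_ne_zero.2 (by omega)
  have hint := Chars.char_isIntegral ρ x
  obtain ⟨z, hz⟩ := Chars.exists_int_eq_of_isIntegral hint
    (((p : ℚ) * f - n) / ((p - 1 : ℕ) : ℚ)) (by
      push_cast
      rw [eq_div_iff hp1]
      linear_combination h1)
  rw [hz] at h1
  have h2 : (n : ℤ) + ((p - 1 : ℕ) : ℤ) * z = (p : ℤ) * f := by exact_mod_cast h1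
  rw [Nat.cast_sub hp.one_lt.le] at h2
  push_cast at h2
  have h3 : ((p : ℤ) - 1) * (z - f) = (f : ℤ) - n := by linear_combination h2
  have h4 : z = (f : ℤ) := by
    rcases lt_trichotomy z (f : ℤ) with h | h | h
    · nlinarith
    · exact h
    · nlinarith
  have h5 : f = n := by
    rw [h4] at h3
    omega
  have h6 : ρ.character x = (n : ℂ) := by rw [hz, h4, h5]; simp
  have h7 : ρ x = 1 := (Chars.char_eq_finrank_iff ρ x).1 h6
  have h8 := hρ x h7
  rw [h8, orderOf_one] at hx
  exact hp.ne_one hx.symm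

/-- For two primes above `n + 1` dividing the order, an irreducible group has elements of the
product order. -/
theorem exists_orderOf_dvd_mul_of_irreducible [Fintype G] {n : ℕ}
    (ρ : Representation ℂ G (Fin n → ℂ)) (hirr : ρ.IsIrreducible) (hρ : ∀ g, ρ g = 1 → g = 1)
    {p q : ℕ} (hp : p.Prime) (hq : q.Prime) (hpq : p ≠ q) (hnp : n + 1 < p) (hnq : n + 1 < q)
    (hpG : p ∣ Nat.card G) (hqG : q ∣ Nat.card G) : ∃ g : G, p * q ∣ orderOf g := by
  classical
  by_contra hne
  push Not at hne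
  have hsep : ∀ g : G, ¬ p ∣ orderOf g ∨ ¬ q ∣ orderOf g := by
    intro g
    by_contra hh
    push Not at hh
    exact hne g ((Nat.coprime_primes hp hq).2 hpq |>.mul_dvd_of_dvd_of_dvd hh.1 hh.2)
  -- a field automorphism for each prime
  have key : ∀ r : ℕ, r.Prime → n + 1 < r → r ∣ Nat.card G →
      ∃ (σ : ℂ →+* ℂ) (x : G), orderOf x = r ∧ σ (ρ.character x) ≠ ρ.character x ∧
        ∀ g : G, ¬ r ∣ orderOf g → σ (ρ.character g) = ρ.character g := by
    intro r hr hnr hrG
    haveI := Fact.mk hr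
    obtain ⟨x, hx⟩ := exists_prime_orderOf_dvd_card' r hrG
    obtain ⟨j, hj, hjne⟩ := exists_pow_char_ne ρ hρ hr (by simpa using hnr) hx
    set m' := ordCompl[r] (Nat.card G) with hm'
    set a := (Nat.card G).factorization r with ha
    have hcop : (r ^ a).Coprime m' :=
      Nat.Coprime.pow_left a (Nat.coprime_ordCompl hr Nat.card_pos.ne')
    obtain ⟨k, hk1, hk2⟩ := Nat.chineseRemainder hcop j 1
    have ha1 : 1 ≤ a := (Nat.Prime.dvd_iff_one_le_factorization hr Nat.card_pos.ne').1 hrG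
    have hm : r ^ a * m' = Nat.card G := Nat.ordProj_mul_ordCompl_eq_self _ _
    have hkc : k.Coprime (Nat.card G) := by
      rw [← hm]
      refine Nat.Coprime.mul_right ?_ ?_
      · refine Nat.Coprime.pow_right a ?_
        have h := Nat.ModEq.of_dvd (dvd_pow_self r (by omega : a ≠ 0)) hk1
        unfold Nat.Coprime at hj ⊢
        rw [← hj, Nat.gcd_comm k, Nat.gcd_comm j]
        rw [Nat.gcd_rec r k, Nat.gcd_rec r j, h]
      · have h1 := Nat.ModEq.gcd_eq hk2
        simpa [Nat.Coprime] using h1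
    obtain ⟨σ, hσ⟩ := GaloisChar.exists_ringEquiv_pow (m := Nat.card G) Nat.card_pos hkc
    refine ⟨σ.toRingHom, x, hx, ?_, ?_⟩
    · rw [gal_char_eq_pow ρ σ.toRingHom k x
        (fun ζ hζ => hσ ζ (orderOf_dvd_iff_pow_eq_one.1
          ((orderOf_dvd_of_pow_eq_one hζ).trans (orderOf_dvd_natCard x))))]
      rwa [show x ^ k = x ^ j from pow_eq_pow_iff_modEq.2
        (hx ▸ Nat.ModEq.of_dvd (dvd_pow_self r (by omega : a ≠ 0)) hk1)]
    · intro g hg
      rw [gal_char_eq_pow ρ σ.toRingHom k g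
        (fun ζ hζ => hσ ζ (orderOf_dvd_iff_pow_eq_one.1
          ((orderOf_dvd_of_pow_eq_one hζ).trans (orderOf_dvd_natCard g))))]
      have hdvd : orderOf g ∣ m' := by
        refine (Nat.Coprime.dvd_of_dvd_mul_left ?_ (hm.symm ▸ orderOf_dvd_natCard g))
        exact (Nat.Coprime.pow_right a ((Nat.Prime.coprime_iff_not_dvd hr).2 hg).symm)
      rw [show g ^ k = g ^ 1 from pow_eq_pow_iff_modEq.2 (Nat.ModEq.of_dvd hdvd hk2), pow_one]
  obtain ⟨σ, x, hx, hσx, hσ⟩ := key p hp hnp hpG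
  obtain ⟨τ, y, hy, hτy, hτ⟩ := key q hq hnq hqG
  let χ : IrrCharacter G := ⟨ρ.character, n, ρ, hirr, rfl⟩
  have hne1 : GaloisChar.galIrr σ χ ≠ χ := fun h =>
    hσx (congrFun (congrArg Subtype.val h) x)
  have hne2 : GaloisChar.galIrr τ χ ≠ χ := fun h =>
    hτy (congrFun (congrArg Subtype.val h) y)
  have hτx : τ (ρ.character x) = ρ.character x := hτ x (by
    rw [hx]; exact fun h => hpq ((Nat.prime_dvd_prime_iff_eq hq hp).1 h).symm)
  have hne3 : GaloisChar.galIrr σ χ ≠ GaloisChar.galIrr τ χ := fun h =>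
    hσx ((congrFun (congrArg Subtype.val h) x).trans hτx)
  have hzero : classInner ((χ : G → ℂ) - (GaloisChar.galIrr σ χ : G → ℂ))
      ((χ : G → ℂ) - (GaloisChar.galIrr τ χ : G → ℂ)) = 0 := by
    unfold classInner
    refine mul_eq_zero_of_right _ (Finset.sum_eq_zero fun g _ => ?_)
    rcases hsep g with h | h
    · have e : (GaloisChar.galIrr σ χ : G → ℂ) g = (χ : G → ℂ) g := hσ g h
      rw [Pi.sub_apply, e, sub_self, zero_mul]
    · have e : (GaloisChar.galIrr τ χ : G → ℂ) g = (χ : G → ℂ) g := hτ g h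
      rw [Pi.sub_apply, Pi.sub_apply, e, sub_self, map_zero, mul_zero]
  simp [Chars.classInner_sub_left, Chars.classInner_sub_right, Chars.classInner_irr, hne1,
    hne2.symm, hne3] at hzero

theorem prime_pow_dvd_card_centralizer {p : ℕ} [Fact p.Prime] (x : G)
    (hP : ∀ P : Sylow p G, ∀ a ∈ P, ∀ b ∈ P, a * b = b * a) (hx : IsPGroup p (Subgroup.zpowers x)) :
    p ^ (Nat.card G).factorization p ∣ Nat.card (Subgroup.centralizer ({x} : Set G)) := by
  obtain ⟨P, hxP⟩ := hx.exists_le_sylow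
  rw [← P.card_eq_multiplicity]
  refine Subgroup.card_dvd_of_le fun a ha => ?_
  exact Subgroup.mem_centralizer_singleton_iff.2
    (hP P a ha x (hxP (Subgroup.mem_zpowers x)))

theorem IsPGroup.zpowers_of_orderOf {p : ℕ} {x : G} (hx : orderOf x = p) :
    IsPGroup p (Subgroup.zpowers x) :=
  IsPGroup.of_card (n := 1) (by rw [Nat.card_zpowers, hx, pow_one])

/-- The main induction. -/
theorem hasLargePrimeHall_aux (b : ℕ) :
    ∀ (N : ℕ) (G : Type u) [Group G] [Finite G], Nat.card G = N →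
      ∀ n : ℕ, n ≤ b → ∀ ρ : Representation ℂ G (Fin n → ℂ), (∀ g, ρ g = 1 → g = 1) →
        HasLargePrimeHall b G := by
  intro N
  induction N using Nat.strong_induction_on with | _ N ihN => ?_
  intro G _ _ hN n
  induction n using Nat.strong_induction_on with | _ n ihn => ?_
  intro hnb ρ hρ
  haveI : Fintype G := Fintype.ofFinite G
  classical
  -- smaller groups
  have hsmall : ∀ (H : Type u) [Group H] [Finite H], Nat.card H < Nat.card G →
      ∀ m : ℕ, m ≤ b → ∀ σ : Representation ℂ H (Fin m → ℂ), (∀ g, σ g = 1 → g = 1) →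
        HasLargePrimeHall b H := fun H _ _ hH m hm σ hσ => ihN _ (hN ▸ hH) H rfl m hm σ hσ
  have hsub : ∀ M : Subgroup G, M ≠ ⊤ → HasLargePrimeHall b M := fun M hM =>
    hsmall M (lt_of_le_of_ne (Nat.le_of_dvd Nat.card_pos M.card_subgroup_dvd_card)
      (fun h => hM (Subgroup.eq_top_of_card_eq M h)))
      n hnb (ρ.comp M.subtype) (fun g hg => Subtype.ext (hρ g hg))
  have hquot : ∀ (K : Subgroup G) [K.Normal], K ≠ ⊥ → ∀ m : ℕ, m ≤ b →
      ∀ σ : Representation ℂ G (Fin m → ℂ), (∀ g, σ g = 1 ↔ g ∈ K) →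
        HasLargePrimeHall b (G ⧸ K) := by
    intro K _ hK m hm σ hσ
    refine hsmall (G ⧸ K) ?_ m hm (QuotientGroup.lift K σ (fun g hg => (hσ g).2 hg)) ?_
    · have h1 := Subgroup.card_eq_card_quotient_mul_card_subgroup K
      have h2 : 1 < Nat.card K := (Subgroup.one_lt_card_iff_ne_bot K).2 hK
      have h3 : 0 < Nat.card (G ⧸ K) := Nat.card_pos
      rw [h1]; nlinarith
    · intro g
      induction g using QuotientGroup.induction_on with
      | _ g => exact fun hg => (QuotientGroup.eq_one_iff g).2 ((hσ g).1 hg)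
  by_cases hG1 : Subsingleton G
  · refine ⟨⊥, fun x _ y _ => Subsingleton.elim _ _, fun q hq hd => ?_, fun q hq hd => ?_⟩
    · rw [Subgroup.card_bot] at hd; exact absurd (Nat.dvd_one.1 hd) hq.ne_one
    · rw [Subgroup.index_bot, Nat.card_of_subsingleton (1 : G)] at hd
      exact absurd (Nat.dvd_one.1 hd) hq.ne_one
  have hnt : Nontrivial G := not_subsingleton_iff_nontrivial.1 hG1
  haveI : Nontrivial (Fin n → ℂ) := by
    by_contra h
    rw [not_nontrivial_iff_subsingleton] at h
    exact hG1 ⟨fun a c => inv_mul_eq_one.1 (hρ _ (LinearMap.ext fun v => Subsingleton.elim _ _))⟩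
  by_cases hirr : ρ.IsIrreducible
  swap
  · -- reducible
    obtain ⟨S, hS0, hS1⟩ := Chars.exists_proper_of_not_irreducible ρ hirr
    obtain ⟨T, hST⟩ := Chars.exists_isCompl ρ S
    have hdim : finrank ℂ S.toSubmodule + finrank ℂ T.toSubmodule = n := by
      rw [Submodule.finrank_add_eq_of_isCompl (Chars.isCompl_toSubmodule ρ hST)]
      simp
    have hSpos : 0 < finrank ℂ S.toSubmodule := by
      rw [Module.finrank_pos_iff, Submodule.nontrivial_iff_ne_bot]
      exact hS0
    have hTpos : 0 < finrank ℂ T.toSubmodule := by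
      rw [Module.finrank_pos_iff, Submodule.nontrivial_iff_ne_bot]
      intro h
      have hT : T = ⊥ := Subrepresentation.toSubmodule_injective h
      exact hS1 (by rw [show S = ⊤ by simpa [hT] using hST.sup_eq_top]; rfl)
    let σS : Representation ℂ G (Fin (finrank ℂ S.toSubmodule) → ℂ) :=
      Chars.conjRep S.toRepresentation (Module.finBasis ℂ S.toSubmodule).equivFun
    let σT : Representation ℂ G (Fin (finrank ℂ T.toSubmodule) → ℂ) :=
      Chars.conjRep T.toRepresentation (Module.finBasis ℂ T.toSubmodule).equivFun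
    have hker : ∀ (U : Subrepresentation ρ) (g : G),
        Chars.conjRep U.toRepresentation (Module.finBasis ℂ U.toSubmodule).equivFun g = 1 ↔
          ∀ v ∈ U.toSubmodule, ρ g v = v := by
      intro U g
      set e := (Module.finBasis ℂ U.toSubmodule).equivFun
      constructor
      · intro h v hv
        have h' := congrArg (fun f : Module.End ℂ _ => f (e ⟨v, hv⟩)) h
        have h'' : e (U.toRepresentation g (e.symm (e ⟨v, hv⟩))) = e ⟨v, hv⟩ := h'
        rw [e.symm_apply_apply] at h''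
        exact congrArg Subtype.val (e.injective h'')
      · intro h
        refine LinearMap.ext fun w => ?_
        show e (U.toRepresentation g (e.symm w)) = w
        rw [show U.toRepresentation g (e.symm w) = e.symm w from
          Subtype.ext (h _ (e.symm w).2), e.apply_symm_apply]
    let N₁ : Subgroup G := MonoidHom.ker σS
    let N₂ : Subgroup G := MonoidHom.ker σT
    have hmem₁ : ∀ g, σS g = 1 ↔ g ∈ N₁ := fun g => MonoidHom.mem_ker.symm
    have hmem₂ : ∀ g, σT g = 1 ↔ g ∈ N₂ := fun g => MonoidHom.mem_ker.symm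
    have hN : N₁ ⊓ N₂ = ⊥ := by
      rw [eq_bot_iff]
      rintro g ⟨h1, h2⟩
      rw [Subgroup.mem_bot]
      refine hρ g (LinearMap.ext fun v => ?_)
      have hv : v ∈ S.toSubmodule ⊔ T.toSubmodule := by
        rw [(Chars.isCompl_toSubmodule ρ hST).sup_eq_top]; trivial
      obtain ⟨a, ha, c, hc, rfl⟩ := Submodule.mem_sup.1 hv
      rw [map_add, (hker S g).1 ((hmem₁ g).2 h1) a ha, (hker T g).1 ((hmem₂ g).2 h2) c hc]
      rfl
    by_cases h1 : N₁ = ⊥
    · exact ihn _ (by omega) (by omega) σS (fun g hg => by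
        have := (hmem₁ g).1 hg; rwa [h1, Subgroup.mem_bot] at this)
    by_cases h2 : N₂ = ⊥
    · exact ihn _ (by omega) (by omega) σT (fun g hg => by
        have := (hmem₂ g).1 hg; rwa [h2, Subgroup.mem_bot] at this)
    exact hasLargePrimeHall_of_pair N₁ N₂ hN hsub (hquot N₁ h1 _ (by omega) σS hmem₁)
      (hquot N₂ h2 _ (by omega) σT hmem₂)
  -- irreducible
  by_cases hcent : ∃ z : G, z ∈ Subgroup.center G ∧ z ≠ 1 ∧
      ∀ r : ℕ, r.Prime → r ∣ orderOf z → b + 1 < r
  · obtain ⟨z, hzc, hz1, hzπ⟩ := hcent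
    obtain ⟨c, hc⟩ : ∃ c : ℂ, ρ z = c • 1 := by
      haveI := hirr
      obtain ⟨c, hc⟩ := Chars.exists_scalar_of_commute ρ (ρ z) (fun g => by
        show ρ z * ρ g = ρ g * ρ z
        rw [← map_mul, ← map_mul, Subgroup.mem_center_iff.1 hzc g])
      exact ⟨c, hc⟩
    -- split the order
    set M := Nat.card G
    set mπ := ∏ r ∈ M.primeFactors.filter (fun r => b + 1 < r), r ^ M.factorization r with hmπ
    set mσ := ∏ r ∈ M.primeFactors.filter (fun r => ¬ b + 1 < r), r ^ M.factorization r with hmσ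
    have hM : mπ * mσ = M := by
      rw [hmπ, hmσ, Finset.prod_filter_mul_prod_filter_not]
      exact (Nat.prod_primeFactors_pow_factorization Nat.card_pos.ne').symm
    have hπprime : ∀ r : ℕ, r.Prime → r ∣ mπ → b + 1 < r := by
      intro r hr hd
      obtain ⟨s, hs, hd'⟩ := (Prime.dvd_finsetProd_iff hr.prime _).1 hd
      rw [(Nat.prime_dvd_prime_iff_eq hr
        (Nat.prime_of_mem_primeFactors (Finset.mem_filter.1 hs).1)).1 (hr.dvd_of_dvd_pow hd')]
      exact (Finset.mem_filter.1 hs).2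
    have hσprime : ∀ r : ℕ, r.Prime → r ∣ mσ → ¬ b + 1 < r := by
      intro r hr hd
      obtain ⟨s, hs, hd'⟩ := (Prime.dvd_finsetProd_iff hr.prime _).1 hd
      rw [(Nat.prime_dvd_prime_iff_eq hr
        (Nat.prime_of_mem_primeFactors (Finset.mem_filter.1 hs).1)).1 (hr.dvd_of_dvd_pow hd')]
      exact (Finset.mem_filter.1 hs).2
    have hn0 : 0 < n := by
      rcases Nat.eq_zero_or_pos n with h | h
      · subst h; exact absurd ‹Nontrivial (Fin 0 → ℂ)› (not_nontrivial _)
      · exact h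
    have hzord : (orderOf z).Coprime mσ := Nat.coprime_of_dvd fun r hr h1 h2 =>
      hσprime r hr h2 (hzπ r hr h1)
    have hzdvd : orderOf z ∣ mπ :=
      hzord.dvd_of_dvd_mul_right (hM.symm ▸ orderOf_dvd_natCard z)
    have hcop2 : (n * mσ).Coprime mπ := Nat.coprime_of_dvd fun r hr h1 h2 => by
      rcases (Nat.Prime.dvd_mul hr).1 h1 with h | h
      · have := Nat.le_of_dvd hn0 h; have := hπprime r hr h2; omega
      · exact hσprime r hr h (hπprime r hr h2)
    have hmπ1 : 1 < mπ := by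
      have hpos : 0 < mπ := Nat.pos_of_ne_zero fun h0 => by
        rw [h0, zero_mul] at hM; exact Nat.card_pos.ne' hM.symm
      have h2 : 2 ≤ orderOf z := by
        have := orderOf_pos z
        have := mt orderOf_eq_one_iff.1 hz1
        omega
      exact lt_of_lt_of_le h2 (Nat.le_of_dvd hpos hzdvd)
    obtain ⟨t, -, ht'⟩ := Nat.exists_mul_mod_eq_one_of_coprime hcop2 hmπ1
    have ht : n * mσ * t ≡ 1 [MOD mπ] := by
      rw [Nat.ModEq, ht', Nat.mod_eq_of_lt hmπ1]
    have hcz : c ^ orderOf z = 1 := by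
      have h1 : ρ (z ^ orderOf z) = c ^ orderOf z • 1 := by
        rw [map_pow, hc, smul_pow, one_pow]
      rw [pow_orderOf_eq_one, map_one] at h1
      obtain ⟨v, hv⟩ := exists_ne (0 : Fin n → ℂ)
      have h2 := congrArg (fun f : Module.End ℂ (Fin n → ℂ) => f v) h1
      have h3 : (c ^ orderOf z - 1) • v = 0 := by
        rw [sub_smul, one_smul]
        exact sub_eq_zero.2 h2.symm
      exact sub_eq_zero.1 ((smul_eq_zero.1 h3).resolve_right hv)
    let μ : G →* ℂ := (powMonoidHom (t * mσ) : ℂ →* ℂ).comp (LinearMap.det.comp ρ)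
    have hμpow : ∀ g, μ g ^ mπ = 1 := by
      intro g
      show (LinearMap.det (ρ g) ^ (t * mσ)) ^ mπ = 1
      rw [← pow_mul, mul_assoc, mul_comm mσ mπ, hM, mul_comm t, pow_mul, ← map_pow, ← map_pow ρ g M,
        (pow_card_eq_one' : g ^ M = 1), map_one, map_one, one_pow]
    have hμz : μ z = c := by
      show LinearMap.det (ρ z) ^ (t * mσ) = c
      rw [hc, LinearMap.det_smul, map_one, mul_one, Module.finrank_fin_fun, ← pow_mul]
      conv_rhs => rw [← pow_one c]
      obtain ⟨e, he⟩ := hzdvd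
      have hcm : c ^ mπ = 1 := by rw [he, pow_mul, hcz, one_pow]
      exact pow_eq_pow_of_modEq (by rw [mul_comm t, ← mul_assoc]; exact ht) hcm
    have hμ0 : ∀ g, μ g ≠ 0 := by
      intro g h
      have hmπ0 : mπ ≠ 0 := fun h0 => by
        rw [h0, zero_mul] at hM; exact Nat.card_pos.ne' hM.symm
      have h' := hμpow g
      rw [h, zero_pow hmπ0] at h'
      exact zero_ne_one h'
    let ρ' : Representation ℂ G (Fin n → ℂ) :=
      { toFun := fun g => (μ g)⁻¹ • ρ g
        map_one' := by simp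
        map_mul' := fun g h => by
          rw [map_mul, map_mul, mul_inv, smul_mul_smul_comm] }
    let K : Subgroup G := MonoidHom.ker ρ'
    let N₂ : Subgroup G := MonoidHom.ker μ.toHomUnits
    have hmemK : ∀ g, ρ' g = 1 ↔ g ∈ K := fun g => MonoidHom.mem_ker.symm
    have hK : K ≠ ⊥ := by
      intro h
      apply hz1
      have hz : z ∈ K := (hmemK z).1 (by
        show (μ z)⁻¹ • ρ z = 1
        rw [hμz, hc, smul_smul, inv_mul_cancel₀ (hμz ▸ hμ0 z), one_smul])
      rwa [h, Subgroup.mem_bot] at hz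
    have hN : K ⊓ N₂ = ⊥ := by
      rw [eq_bot_iff]
      rintro g ⟨h1, h2⟩
      rw [Subgroup.mem_bot]
      apply hρ
      have h1' : (μ g)⁻¹ • ρ g = 1 := (hmemK g).2 h1
      have h2' : μ g = 1 := congrArg Units.val (MonoidHom.mem_ker.1 h2)
      rwa [h2', inv_one, one_smul] at h1'
    have hN₂ : HasLargePrimeHall b (G ⧸ N₂) := by
      let φ := QuotientGroup.kerLift μ.toHomUnits
      have hφ : Function.Injective φ := QuotientGroup.kerLift_injective μ.toHomUnits
      refine ⟨⊤, fun x _ y _ => hφ ?_, fun r hr hd => ?_, fun r hr hd => ?_⟩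
      · rw [map_mul, map_mul, mul_comm]
      · rw [Subgroup.card_top] at hd
        haveI := Fact.mk hr
        obtain ⟨w, hw⟩ := exists_prime_orderOf_dvd_card' r hd
        obtain ⟨g, rfl⟩ := QuotientGroup.mk_surjective w
        refine hπprime r hr ?_
        rw [← hw, ← orderOf_injective φ hφ]
        exact orderOf_dvd_of_pow_eq_one (Units.ext (hμpow g))
      · rw [Subgroup.index_top] at hd
        exact absurd (Nat.dvd_one.1 hd) hr.ne_one
    exact hasLargePrimeHall_of_pair K N₂ hN hsub (hquot K hK n hnb ρ' hmemK) hN₂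
  push Not at hcent
  by_cases hp : ∃ p : ℕ, p.Prime ∧ b + 1 < p ∧ p ∣ Nat.card G
  swap
  · push Not at hp
    refine ⟨⊥, fun x hx y hy => ?_, fun r hr hd => ?_, fun r hr hd => ?_⟩
    · rw [Subgroup.mem_bot] at hx hy; rw [hx, hy]
    · rw [Subgroup.card_bot] at hd; exact absurd (Nat.dvd_one.1 hd) hr.ne_one
    · rw [Subgroup.index_bot] at hd
      exact not_lt.1 fun hlt => hp r hr hlt hd
  obtain ⟨p, hp, hbp, hpG⟩ := hp
  haveI hpfact := Fact.mk hp
  -- Sylow subgroups for large primes are abelian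
  have hSyl : ∀ (r : ℕ) [Fact r.Prime], b + 1 < r → ∀ R : Sylow r G,
      ∀ a ∈ R, ∀ c ∈ R, a * c = c * a := by
    intro r hr' hbr R a ha c hc
    obtain ⟨B, hB, hi⟩ := exists_abelian_index_dvd_factorial (ρ.comp (R : Subgroup G).subtype)
      (fun g hg => Subtype.ext (hρ g hg)) R.isPGroup'
    obtain ⟨i, hi'⟩ := R.isPGroup'.index B
    rw [Module.finrank_fin_fun] at hi
    have hB1 : B = ⊤ := by
      rcases Nat.eq_zero_or_pos i with h | h
      · rw [← Subgroup.index_eq_one, hi', h, pow_zero]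
      · have hd : r ∣ n.factorial := (dvd_pow_self r h.ne').trans (hi' ▸ hi)
        have := (Nat.Prime.dvd_factorial hr'.out).1 hd
        omega
    have := hB ⟨a, ha⟩ (hB1 ▸ Subgroup.mem_top _) ⟨c, hc⟩ (hB1 ▸ Subgroup.mem_top _)
    exact congrArg Subtype.val this
  have hnc : ∀ (r : ℕ) (w : G), r.Prime → b + 1 < r → orderOf w = r →
      Subgroup.centralizer ({w} : Set G) ≠ ⊤ := by
    intro r w hr hbr hw h
    have hwc : w ∈ Subgroup.center G := by
      rw [Subgroup.mem_center_iff]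
      intro g
      exact (Subgroup.mem_centralizer_singleton_iff.1 (h ▸ Subgroup.mem_top g))
    obtain ⟨s, hs, hsd, hsb⟩ := hcent w hwc (fun h1 => by
      rw [h1, orderOf_one] at hw; exact hr.ne_one hw.symm)
    rw [hw, Nat.prime_dvd_prime_iff_eq hs hr] at hsd
    omega
  have hhall : ∀ (M : Subgroup G), M ≠ ⊤ → ∃ A : Subgroup G, A ≤ M ∧
      (∀ a ∈ A, ∀ c ∈ A, a * c = c * a) ∧ (∀ r : ℕ, r.Prime → r ∣ Nat.card A → b + 1 < r) ∧
      (∀ r k : ℕ, r.Prime → b + 1 < r → r ^ k ∣ Nat.card M → r ^ k ∣ Nat.card A) ∧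
      (∀ r : ℕ, r.Prime → r ∣ A.index → r ≤ b + 1 ∨ r ∣ M.index) := by
    intro M hM
    obtain ⟨A, hA, h1, h2⟩ := hsub M hM
    refine ⟨A.map M.subtype, Subgroup.map_subtype_le _, ?_, ?_, ?_, ?_⟩
    · rintro _ ⟨x, hx, rfl⟩ _ ⟨y, hy, rfl⟩
      simp only [← map_mul]; rw [hA x hx y hy]
    · intro r hr hd
      rw [Subgroup.card_map_of_injective M.subtype_injective] at hd
      exact h1 r hr hd
    · intro r k hr hbr hd
      rw [Subgroup.card_map_of_injective M.subtype_injective]
      refine (Nat.Coprime.pow_left k ((Nat.Prime.coprime_iff_not_dvd hr).2 ?_)).dvd_of_dvd_mul_right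
        (A.card_mul_index.symm ▸ hd)
      exact fun h => absurd (h2 r hr h) (by omega)
    · intro r hr hd
      rw [Subgroup.index_map_subtype] at hd
      rcases (Nat.Prime.dvd_mul hr).1 hd with h | h
      · exact Or.inl (h2 r hr h)
      · exact Or.inr h
  obtain ⟨x, hx⟩ := exists_prime_orderOf_dvd_card' p hpG
  obtain ⟨P, hxP⟩ := (IsPGroup.zpowers_of_orderOf hx).exists_le_sylow
  set a := (Nat.card G).factorization p
  have key : ∀ q : ℕ, q.Prime → b + 1 < q →
      q ^ (Nat.card G).factorization q ∣ Nat.card (Subgroup.centralizer ((P : Subgroup G) : Set G)) := by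
    intro q hq hbq
    haveI := Fact.mk hq
    by_cases hqp : q = p
    · subst hqp
      rw [← P.card_eq_multiplicity]
      exact Subgroup.card_dvd_of_le fun u hu =>
        Subgroup.mem_centralizer_iff.2 fun w hw => hSyl q hbq P w hw u hu
    by_cases hqG : q ∣ Nat.card G
    swap
    · rw [Nat.factorization_eq_zero_of_not_dvd hqG, pow_zero]; exact one_dvd _
    obtain ⟨g, hg⟩ := exists_orderOf_dvd_mul_of_irreducible ρ hirr hρ hp hq (Ne.symm hqp)
      (by omega) (by omega) hpG hqG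
    set x₁ := g ^ (orderOf g / p) with hx₁def
    set y₁ := g ^ (orderOf g / q) with hy₁def
    have hx₁ : orderOf x₁ = p := orderOf_pow_orderOf_div (orderOf_pos g).ne' (dvd_of_mul_right_dvd hg)
    have hy₁ : orderOf y₁ = q := orderOf_pow_orderOf_div (orderOf_pos g).ne' (dvd_of_mul_left_dvd hg)
    obtain ⟨A, hAM, hAc, -, hAd, -⟩ := hhall _ (hnc p x₁ hp hbp hx₁)
    have hAp : p ^ a ∣ Nat.card A := hAd p a hp hbp
      (prime_pow_dvd_card_centralizer x₁ (hSyl p hbp) (IsPGroup.zpowers_of_orderOf hx₁))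
    have hAq : q ∣ Nat.card A := by
      have h1 : q ^ 1 ∣ Nat.card (Subgroup.centralizer ({x₁} : Set G)) := by
        rw [pow_one, ← hy₁, ← Subgroup.orderOf_mk y₁ (Subgroup.mem_centralizer_singleton_iff.2
          (Commute.pow_pow (Commute.refl g) _ _).eq)]
        exact orderOf_dvd_natCard _
      exact pow_one q ▸ hAd q 1 hq hbq h1
    obtain ⟨y, hy⟩ := exists_prime_orderOf_dvd_card' q hAq
    have hy' : orderOf (y : G) = q := by rw [Subgroup.orderOf_coe, hy]
    obtain ⟨B, hBM, hBc, -, hBd, -⟩ := hhall _ (hnc q y hq hbq hy')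
    have hBp : p ^ a ∣ Nat.card B := hBd p a hp hbp (hAp.trans (Subgroup.card_dvd_of_le fun u hu =>
      Subgroup.mem_centralizer_singleton_iff.2 (hAc u hu y y.2)))
    have hBq : q ^ (Nat.card G).factorization q ∣ Nat.card B := hBd q _ hq hbq
      (prime_pow_dvd_card_centralizer (y : G) (hSyl q hbq) (IsPGroup.zpowers_of_orderOf hy'))
    obtain ⟨R, hR⟩ := Sylow.exists_subgroup_card_pow_prime p hBp
    have hRcard : Nat.card (R.map B.subtype) = p ^ (Nat.card G).factorization p := by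
      rw [Subgroup.card_map_of_injective B.subtype_injective]; exact hR
    obtain ⟨u, hu⟩ := MulAction.exists_smul_eq G (Sylow.ofCard (R.map B.subtype) hRcard) P
    refine (hBq.trans (dvd_of_eq ?_)).trans (Subgroup.card_dvd_of_le
      (H := B.map (MulAut.conj u).toMonoidHom) ?_)
    · exact (Subgroup.card_map_of_injective (MulAut.conj u).injective).symm
    rintro _ ⟨d, hd, rfl⟩
    rw [Subgroup.mem_centralizer_iff]
    intro w hw
    rw [← hu, SetLike.mem_coe, Sylow.coe_subgroup_smul] at hw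
    obtain ⟨w₀, hw₀, rfl⟩ := hw
    obtain ⟨w₁, -, rfl⟩ := (hw₀ : w₀ ∈ R.map B.subtype)
    show u * (w₁ : G) * u⁻¹ * (u * d * u⁻¹) = u * d * u⁻¹ * (u * (w₁ : G) * u⁻¹)
    simp [mul_assoc, ← mul_assoc (w₁ : G) d, hBc (w₁ : G) w₁.2 d hd]
  obtain ⟨A, hAM, hAc, hA1, -, hAi⟩ := hhall _ (hnc p x hp hbp hx)
  refine ⟨A, hAc, hA1, fun q hq hd => ?_⟩
  rcases hAi q hq hd with h | h
  · exact h
  · by_contra hlt
    push Not at hlt
    have h1 : q ^ (Nat.card G).factorization q ∣
        Nat.card (Subgroup.centralizer ({x} : Set G)) := by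
      refine (key q hq hlt).trans (Subgroup.card_dvd_of_le fun u hu => ?_)
      rw [Subgroup.mem_centralizer_singleton_iff]
      exact (Subgroup.mem_centralizer_iff.1 hu x (hxP (Subgroup.mem_zpowers x))).symm
    have h2 : q ^ ((Nat.card G).factorization q + 1) ∣ Nat.card G := by
      rw [pow_succ]
      conv_rhs => rw [← (Subgroup.centralizer ({x} : Set G)).card_mul_index]
      exact mul_dvd_mul h1 h
    have := (hq.pow_dvd_iff_le_factorization Nat.card_pos.ne').1 h2
    omega

/-- Blichfeldt's theorem. -/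
theorem exists_abelian_hall_large_primes {n : ℕ} (ρ : Representation ℂ G (Fin n → ℂ))
    (hρ : ∀ g, ρ g = 1 → g = 1) : HasLargePrimeHall n G :=
  hasLargePrimeHall_aux n _ G rfl n le_rfl ρ hρ

end Cfsg.Agent.Lib.Jordan
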